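import Mathlib

/-!
# The natural module of `SL₂(4)` from fixed point free elements of order three

If `SL₂(4)` acts on an elementary abelian 2-group `N` such that elements of order three act without
nontrivial fixed points, then a nontrivial fixed vector `w` of the upper unipotent subgroup yields an
equivariant embedding of the natural module `F²`.
-/

set_option autoImplicit false
set_option linter.unusedSectionVars false
set_option linter.style.haveILetI false

namespace Cfsg.Agent.H406.AffFour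

open Matrix

variable {F : Type*} [Field F]

local notation:1024 "↑ₘ" A:1024 =>
  ((A : Matrix.SpecialLinearGroup (Fin 2) F) : Matrix (Fin 2) (Fin 2) F)

/-- The matrix `[[1, b], [0, 1]]`. -/
def upper (b : F) : Matrix.SpecialLinearGroup (Fin 2) F :=
  ⟨!![1, b; 0, 1], by simp [Matrix.det_fin_two]⟩

theorem exists_col (v : Fin 2 → F) (hv : v ≠ 0) :
    ∃ g : Matrix.SpecialLinearGroup (Fin 2) F, ∀ i, ↑ₘg i 0 = v i := by
  by_cases h0 : v 0 = 0
  · have h1 : v 1 ≠ 0 := by
      intro h1
      apply hv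
      funext i
      fin_cases i
      · exact h0
      · exact h1
    refine ⟨⟨!![0, -(v 1)⁻¹; v 1, 0], ?_⟩, ?_⟩
    · rw [Matrix.det_fin_two]
      simp [h1]
    · intro i
      fin_cases i <;> simp [h0]
  · refine ⟨⟨!![v 0, 0; v 1, (v 0)⁻¹], ?_⟩, ?_⟩
    · rw [Matrix.det_fin_two]
      simp [h0]
    · intro i
      fin_cases i <;> simp

theorem eq_mul_upper (g h : Matrix.SpecialLinearGroup (Fin 2) F) (hgh : ∀ i, ↑ₘg i 0 = ↑ₘh i 0) :
    ∃ b : F, g = h * upper b := by
  refine ⟨↑ₘh 1 1 * ↑ₘg 0 1 - ↑ₘh 0 1 * ↑ₘg 1 1, ?_⟩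
  have hg := g.2
  have hh := h.2
  rw [Matrix.det_fin_two] at hg hh
  have e0 := hgh 0
  have e1 := hgh 1
  apply Subtype.ext
  rw [Matrix.SpecialLinearGroup.coe_mul]
  ext i j
  fin_cases i <;> fin_cases j <;>
    simp [upper, Matrix.mul_apply, Fin.sum_univ_two]
  · exact e0
  · rw [e0, e1] at hg
    linear_combination (↑ₘh 0 1) * hg - (↑ₘg 0 1) * hh
  · exact e1
  · rw [e0, e1] at hg
    linear_combination (↑ₘh 1 1) * hg - (↑ₘg 1 1) * hh

section phi

variable {N : Type*} [CommGroup N] (ρ : Matrix.SpecialLinearGroup (Fin 2) F →* MulAut N) (w : N)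

open Classical in
/-- The map `g e₀ ↦ g w`. -/
noncomputable def phi (v : Fin 2 → F) : N :=
  if hv : v = 0 then 1 else ρ (Classical.choose (exists_col v hv)) w

variable {ρ w}

theorem phi_zero : phi ρ w 0 = 1 := by
  rw [phi, dif_pos rfl]

theorem phi_eq (hw : ∀ b : F, ρ (upper b) w = w) (g : Matrix.SpecialLinearGroup (Fin 2) F)
    (v : Fin 2 → F) (h : ∀ i, ↑ₘg i 0 = v i) : phi ρ w v = ρ g w := by
  have hv : v ≠ 0 := by
    intro hv
    have hg := g.2
    rw [Matrix.det_fin_two, h, h, hv] at hg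
    simp at hg
  rw [phi, dif_neg hv]
  have h' := Classical.choose_spec (exists_col v hv)
  obtain ⟨b, hb⟩ := eq_mul_upper (Classical.choose (exists_col v hv)) g
    (fun i => (h' i).trans (h i).symm)
  rw [hb, map_mul, MulAut.mul_apply, hw]

theorem phi_mulVec (hw : ∀ b : F, ρ (upper b) w = w) (g : Matrix.SpecialLinearGroup (Fin 2) F)
    (v : Fin 2 → F) : phi ρ w (↑ₘg *ᵥ v) = ρ g (phi ρ w v) := by
  by_cases hv : v = 0
  · rw [hv, Matrix.mulVec_zero, phi_zero, map_one]
  · obtain ⟨h, hh⟩ := exists_col v hv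
    rw [phi_eq hw h v hh, phi_eq hw (g * h) (↑ₘg *ᵥ v), map_mul, MulAut.mul_apply]
    intro i
    rw [Matrix.SpecialLinearGroup.coe_mul, Matrix.mul_apply, Fin.sum_univ_two]
    simp only [Matrix.mulVec, dotProduct, Fin.sum_univ_two, hh]

theorem phi_ne_one (hw : ∀ b : F, ρ (upper b) w = w) (hw1 : w ≠ 1)
    {v : Fin 2 → F} (hv : v ≠ 0) : phi ρ w v ≠ 1 := by
  obtain ⟨h, hh⟩ := exists_col v hv
  rw [phi_eq hw h v hh]
  intro h1
  apply hw1
  have : ρ h w = ρ h 1 := by rw [h1, map_one]
  exact (ρ h).injective this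

end phi

section three

variable [Fintype F] (h4 : Fintype.card F = 4)

include h4

theorem two_eq : (2 : F) = 0 := by
  obtain ⟨p, hp⟩ := CharP.exists F
  have hprime : p.Prime := CharP.char_is_prime F p
  have hd : p ∣ Fintype.card F := (CharP.cast_eq_zero_iff F p _).1 (Nat.cast_card_eq_zero F)
  rw [h4] at hd
  have h2 : p = 2 := by
    have : p ∣ 2 := hprime.dvd_of_dvd_pow (n := 2) (by simpa using hd)
    exact (Nat.prime_dvd_prime_iff_eq hprime Nat.prime_two).1 this
  subst h2
  exact_mod_cast CharP.cast_eq_zero F 2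

theorem sq_eq (t : F) (h0 : t ≠ 0) (h1 : t ≠ 1) : t ^ 2 = t + 1 := by
  have ht4 : t ^ 4 = t := by
    have := FiniteField.pow_card t
    rwa [h4] at this
  have : t * ((t - 1) * (t ^ 2 + t + 1)) = 0 := by linear_combination ht4
  rcases mul_eq_zero.1 this with h | h
  · exact absurd h h0
  · rcases mul_eq_zero.1 h with h | h
    · exact absurd (sub_eq_zero.1 h) h1
    · linear_combination h - (t + 1) * two_eq h4

/-- Two distinct nonzero vectors `u`, `v` are in a cycle `u → v → u + v → u` of an element of order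
three. -/
theorem exists_three (u v : Fin 2 → F) (hu : u ≠ 0) (hv : v ≠ 0) (huv : u ≠ v) :
    ∃ g : Matrix.SpecialLinearGroup (Fin 2) F, g ^ 3 = 1 ∧ g ≠ 1 ∧ ↑ₘg *ᵥ u = v ∧ ↑ₘg *ᵥ v = u + v := by
  have h2 := two_eq h4
  -- it is enough to find the matrix with the right trace
  suffices H : ∃ g : Matrix.SpecialLinearGroup (Fin 2) F, ↑ₘg 0 0 + ↑ₘg 1 1 = 1 ∧ ↑ₘg *ᵥ u = v by
    obtain ⟨g, hg, hgu⟩ := H
    have hdet := g.2
    rw [Matrix.det_fin_two] at hdet
    have hsq : ↑ₘg * ↑ₘg = ↑ₘg + 1 := by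
      have h11 : ↑ₘg 1 1 = 1 - ↑ₘg 0 0 := by linear_combination hg
      have e : ∀ i j, (1 : Matrix (Fin 2) (Fin 2) F) i j = if i = j then 1 else 0 :=
        fun i j => Matrix.one_apply
      rw [h11] at hdet
      ext i j
      rw [Matrix.mul_apply, Fin.sum_univ_two, Matrix.add_apply, e]
      fin_cases i <;> fin_cases j <;> simp [h11]
      · linear_combination (-1 : F) * hdet - h2
      · linear_combination (0 : F) * h2
      · linear_combination (0 : F) * h2
      · linear_combination (-1 : F) * hdet - h2 * (↑ₘg 0 0) + (↑ₘg 0 0 - 1) * h2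
    refine ⟨g, ?_, ?_, hgu, ?_⟩
    · apply Subtype.ext
      rw [Matrix.SpecialLinearGroup.coe_pow, Matrix.SpecialLinearGroup.coe_one, pow_succ, pow_two, hsq, add_mul,
        hsq, one_mul]
      have : ↑ₘg + 1 + ↑ₘg = ↑ₘg + ↑ₘg + 1 := by abel
      rw [this]
      have h0 : ↑ₘg + ↑ₘg = 0 := by
        rw [← two_smul F, h2, zero_smul]
      rw [h0, zero_add]
    · intro h
      rw [h, Matrix.SpecialLinearGroup.coe_one, Matrix.one_mulVec] at hgu
      exact huv hgu
    · rw [← hgu, Matrix.mulVec_mulVec, hsq, Matrix.add_mulVec, Matrix.one_mulVec, add_comm]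
  by_cases hd : u 0 * v 1 - u 1 * v 0 = 0
  · -- dependent: `v = λ u`
    obtain ⟨t, ht⟩ : ∃ t : F, v = t • u := by
      by_cases h0 : u 0 = 0
      · have h1 : u 1 ≠ 0 := by
          intro h1
          apply hu
          funext i
          fin_cases i
          · exact h0
          · exact h1
        refine ⟨v 1 / u 1, ?_⟩
        rw [h0, zero_mul, zero_sub, neg_eq_zero] at hd
        have hv0 : v 0 = 0 := (mul_eq_zero.1 hd).resolve_left h1
        funext i
        fin_cases i
        · simp [h0, hv0]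
        · simp [h1]
      · refine ⟨v 0 / u 0, ?_⟩
        funext i
        fin_cases i
        · simp [h0]
        · change v 1 = v 0 / u 0 * u 1
          field_simp
          linear_combination hd
    have t0 : t ≠ 0 := by
      rintro rfl
      exact hv (by rw [ht, zero_smul])
    have t1 : t ≠ 1 := by
      rintro rfl
      exact huv (by rw [ht, one_smul])
    have ht2 := sq_eq h4 t t0 t1
    obtain ⟨h, hh⟩ := exists_col u hu
    let d : Matrix.SpecialLinearGroup (Fin 2) F := ⟨!![t, 0; 0, t⁻¹], by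
      rw [Matrix.det_fin_two]; simp [t0]⟩
    have htr : t + t⁻¹ = 1 := by
      field_simp
      linear_combination ht2 + h2
    refine ⟨h * d * h⁻¹, ?_, ?_⟩
    · have : ∀ A : Matrix (Fin 2) (Fin 2) F, A 0 0 + A 1 1 = A.trace := fun A => by
        rw [Matrix.trace_fin_two]
      rw [this, Matrix.SpecialLinearGroup.coe_mul, Matrix.trace_mul_comm, ← Matrix.SpecialLinearGroup.coe_mul,
        ← mul_assoc, inv_mul_cancel, one_mul, Matrix.trace_fin_two]
      exact htr
    · have hu' : u = ↑ₘh *ᵥ ![1, 0] := by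
        funext i
        simp [Matrix.mulVec, dotProduct, Fin.sum_univ_two, hh]
      have hd' : ↑ₘd *ᵥ ![1, 0] = t • ![1, 0] := by
        funext i
        fin_cases i <;> simp [d, Matrix.mulVec, dotProduct, Fin.sum_univ_two]
      have hinv : ↑ₘ(h⁻¹) *ᵥ u = ![1, 0] := by
        rw [hu', Matrix.mulVec_mulVec, ← Matrix.SpecialLinearGroup.coe_mul, inv_mul_cancel,
          Matrix.SpecialLinearGroup.coe_one, Matrix.one_mulVec]
      rw [Matrix.SpecialLinearGroup.coe_mul, ← Matrix.mulVec_mulVec, hinv, Matrix.SpecialLinearGroup.coe_mul,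
        ← Matrix.mulVec_mulVec, hd', Matrix.mulVec_smul, ← hu', ht]
  · -- independent
    set δ : F := u 0 * v 1 - u 1 * v 0 with hδ
    refine ⟨⟨!![(v 0 * v 1 - (u 0 + v 0) * u 1) / δ, ((u 0 + v 0) * u 0 - v 0 * v 0) / δ;
      (v 1 * v 1 - (u 1 + v 1) * u 1) / δ, ((u 1 + v 1) * u 0 - v 1 * v 0) / δ], ?_⟩, ?_, ?_⟩
    · rw [Matrix.det_fin_two]
      simp only [Matrix.of_apply, Matrix.cons_val', Matrix.cons_val_zero, Matrix.cons_val_one,
        Matrix.cons_val_fin_one]
      field_simp
      rw [hδ]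
      linear_combination (-1 : F) * (u 0 * v 1 - u 1 * v 0) ^ 2 * h2
    · simp only [Matrix.of_apply, Matrix.cons_val', Matrix.cons_val_zero, Matrix.cons_val_one,
        Matrix.cons_val_fin_one]
      field_simp
      rw [hδ]
      linear_combination (0 : F) * h2
    · funext i
      fin_cases i
      · simp only [Matrix.mulVec, dotProduct, Fin.sum_univ_two]
        simp only [Matrix.of_apply, Matrix.cons_val', Matrix.cons_val_zero, Matrix.cons_val_one,
          Matrix.cons_val_fin_one, Fin.zero_eta]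
        field_simp
        rw [hδ]
        ring
      · simp only [Matrix.mulVec, dotProduct, Fin.sum_univ_two]
        simp only [Matrix.of_apply, Matrix.cons_val', Matrix.cons_val_zero, Matrix.cons_val_one,
          Matrix.cons_val_fin_one, Fin.mk_one]
        field_simp
        rw [hδ]
        ring

variable {N : Type*} [CommGroup N] {ρ : Matrix.SpecialLinearGroup (Fin 2) F →* MulAut N} {w : N}

theorem phi_add (hw : ∀ b : F, ρ (upper b) w = w) (hN : ∀ n : N, n * n = 1)
    (hfix : ∀ g : Matrix.SpecialLinearGroup (Fin 2) F, g ^ 3 = 1 → g ≠ 1 → ∀ n : N, ρ g n = n → n = 1)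
    (u v : Fin 2 → F) : phi ρ w (u + v) = phi ρ w u * phi ρ w v := by
  by_cases hu : u = 0
  · rw [hu, zero_add, phi_zero, one_mul]
  by_cases hv : v = 0
  · rw [hv, add_zero, phi_zero, mul_one]
  by_cases huv : u = v
  · rw [huv, hN, ← two_smul F v, two_eq h4, zero_smul, phi_zero]
  obtain ⟨g, hg3, hg1, hgu, hgv⟩ := exists_three h4 u v hu hv huv
  have e1 : phi ρ w v = ρ g (phi ρ w u) := by rw [← hgu, phi_mulVec hw]
  have e2 : phi ρ w (u + v) = ρ g (ρ g (phi ρ w u)) := by rw [← hgv, phi_mulVec hw, e1]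
  set n := phi ρ w u with hn
  have key : n * ρ g n * ρ g (ρ g n) = 1 := by
    apply hfix g hg3 hg1
    rw [map_mul, map_mul]
    have : ρ g (ρ g (ρ g n)) = n := by
      rw [← MulAut.mul_apply, ← MulAut.mul_apply, ← map_mul, ← map_mul]
      have : g * g * g = 1 := by rw [← pow_two, ← pow_succ, hg3]
      rw [this, map_one, MulAut.one_apply]
    rw [this]
    rw [mul_comm _ n, mul_assoc]
  rw [e2, e1]
  have := eq_inv_of_mul_eq_one_right key
  rw [this]
  have hinv : ∀ m : N, m⁻¹ = m := fun m => inv_eq_of_mul_eq_one_left (hN m)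
  rw [hinv]

end three

end Cfsg.Agent.H406.AffFour
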