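import Cfsg.Prelude.Def_Transfer
import Cfsg.Agent.H406.AffFour
import Cfsg.Agent.Lib.VonDyck
import Cfsg.Agent.S0252
import Cfsg.Agent.S3488

/-!
# `2^n.A₅` with element orders `{1, 2, 3, 4, 5}` contains `2⁴ : SL₂(4)`
-/

set_option autoImplicit false
set_option linter.unusedSectionVars false
set_option linter.style.haveILetI false

namespace Cfsg.Agent.H406.CritFour

open Subgroup Cfsg.Agent.H406.AffFour Cfsg.Agent.Lib.VonDyck

section split

variable {G : Type*} [Group G] [Finite G]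

/-- An element acting without fixed points on the normal subgroup `N`: every element of the coset
is conjugate to it. -/
theorem exists_conj {N : Subgroup G} (hN : N.Normal) {c : G}
    (hc : ∀ n ∈ N, n * c = c * n → n = 1) {d : G} (hd : d * c⁻¹ ∈ N) :
    ∃ m ∈ N, m * c * m⁻¹ = d := by
  let f : N → N := fun m => ⟨m.1 * c * m.1⁻¹ * c⁻¹, by
    have : m.1 * c * m.1⁻¹ * c⁻¹ = m.1 * (c * m.1⁻¹ * c⁻¹) := by group
    rw [this]
    exact N.mul_mem m.2 (hN.conj_mem _ (N.inv_mem m.2) _)⟩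
  have hf : Function.Injective f := by
    intro a b hab
    have h1 : a.1 * c * a.1⁻¹ * c⁻¹ = b.1 * c * b.1⁻¹ * c⁻¹ := congrArg Subtype.val hab
    have h2 : a.1 * c * a.1⁻¹ = b.1 * c * b.1⁻¹ := mul_right_cancel h1
    have h3 : (b.1⁻¹ * a.1) * c = c * (b.1⁻¹ * a.1) := by
      calc (b.1⁻¹ * a.1) * c = b.1⁻¹ * (a.1 * c * a.1⁻¹) * a.1 := by group
        _ = b.1⁻¹ * (b.1 * c * b.1⁻¹) * a.1 := by rw [h2]
        _ = c * (b.1⁻¹ * a.1) := by group
    have h4 := hc _ (N.mul_mem (N.inv_mem b.2) a.2) h3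
    apply Subtype.ext
    exact (inv_mul_eq_one.1 h4).symm
  obtain ⟨m, hm⟩ := (Finite.injective_iff_surjective.1 hf) ⟨_, hd⟩
  refine ⟨m.1, m.2, ?_⟩
  have := congrArg Subtype.val hm
  exact mul_right_cancel this

/-- Splitting of an elementary abelian 2-group (or any normal subgroup) by `A₅`, when elements of
orders 3 and 5 act without fixed points. -/
theorem exists_split {N : Subgroup G} (hN : N.Normal) (π : G →* alternatingGroup (Fin 5))
    (hπ : Function.Surjective π) (hk : π.ker = N)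
    (h3 : ∀ g : G, (π g) ^ 3 = 1 → π g ≠ 1 → ∀ n ∈ N, n * g = g * n → n = 1)
    (h5 : ∀ g : G, (π g) ^ 5 = 1 → π g ≠ 1 → ∀ n ∈ N, n * g = g * n → n = 1) :
    ∃ φ : alternatingGroup (Fin 5) →* G, ∀ a, π (φ a) = a := by
  have hmem : ∀ g : G, g ∈ N ↔ π g = 1 := fun g => by rw [← hk, MonoidHom.mem_ker]
  -- elements of orders three and five
  have p3 : ∀ g : G, (π g) ^ 3 = 1 → π g ≠ 1 → g ^ 3 = 1 := fun g hg hg1 =>
    h3 g hg hg1 _ ((hmem _).2 (by rw [map_pow, hg])) (by rw [← pow_succ, ← pow_succ'])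
  have p5 : ∀ g : G, (π g) ^ 5 = 1 → π g ≠ 1 → g ^ 5 = 1 := fun g hg hg1 =>
    h5 g hg hg1 _ ((hmem _).2 (by rw [map_pow, hg])) (by rw [← pow_succ, ← pow_succ'])
  obtain ⟨X, hX⟩ := hπ a5
  let c : alternatingGroup (Fin 5) := ⟨Equiv.swap 0 1 * Equiv.swap 1 4,
    Equiv.Perm.mem_alternatingGroup.2 (by decide)⟩
  have hc3 : c ^ 3 = 1 := by decide
  have hc1 : c ≠ 1 := by decide
  have hac : a5 * c * a5⁻¹ = c⁻¹ := by decide
  obtain ⟨C, hC⟩ := hπ c
  obtain ⟨m, hm, hmC⟩ := exists_conj (c := C⁻¹) hN (fun n hn h => by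
      refine h3 C (by rw [hC]; exact hc3) (by rw [hC]; exact hc1) n hn ?_
      calc n * C = C * (C⁻¹ * n) * C := by group
        _ = C * (n * C⁻¹) * C := by rw [h]
        _ = C * n := by group) (d := X * C * X⁻¹) (by
      rw [hmem, map_mul, map_mul, map_mul, map_inv, map_inv, map_inv, hX, hC, hac, inv_inv,
        inv_mul_cancel])
  set x : G := m⁻¹ * X with hx
  have hπm : π m = 1 := (hmem m).1 hm
  have hπx : π x = a5 := by rw [hx, map_mul, map_inv, hπm, hX, inv_one, one_mul]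
  have hxC : x * C * x⁻¹ = C⁻¹ := by
    rw [hx]
    calc m⁻¹ * X * C * (m⁻¹ * X)⁻¹ = m⁻¹ * (X * C * X⁻¹) * m := by group
      _ = m⁻¹ * (m * C⁻¹ * m⁻¹) * m := by rw [hmC]
      _ = C⁻¹ := by group
  have hx2 : x ^ 2 = 1 := by
    refine h3 C (by rw [hC]; exact hc3) (by rw [hC]; exact hc1) _ ?_ ?_
    · rw [hmem, map_pow, hπx]
      exact a5_sq
    · have h1 : x * C = C⁻¹ * x := by rw [← hxC]; group
      have h2 : x * C⁻¹ = C * x := by
        have : x * C⁻¹ * x⁻¹ = C := by
          have := congrArg (fun y => y⁻¹) hxC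
          simpa [mul_assoc] using this
        calc x * C⁻¹ = (x * C⁻¹ * x⁻¹) * x := by group
          _ = C * x := by rw [this]
      rw [pow_two, mul_assoc, h1, ← mul_assoc, h2, mul_assoc]
  obtain ⟨b, hb⟩ := hπ b5
  have hb3 : b ^ 3 = 1 := p3 b (by rw [hb]; exact b5_pow) (by rw [hb]; exact b5_ne)
  have hab5 : (x * b) ^ 5 = 1 :=
    p5 _ (by rw [map_mul, hπx, hb]; exact ab5_pow) (by rw [map_mul, hπx, hb]; exact ab5_ne)
  obtain ⟨φ, hφa, hφb⟩ := exists_hom_alternatingFive hx2 hb3 hab5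
  refine ⟨φ, fun a => ?_⟩
  have : (π.comp φ) = MonoidHom.id _ := by
    apply MonoidHom.eq_of_eqOn_dense closure_a5_b5
    rintro y (rfl | rfl)
    · simp [hφa, hπx]
    · simp [hφb, hb]
  exact DFunLike.congr_fun this a

end split

section SL

variable {F : Type*} [Field F] [Fintype F]

theorem center_eq_bot (h4 : Fintype.card F = 4) :
    Subgroup.center (Matrix.SpecialLinearGroup (Fin 2) F) = ⊥ := by
  rw [eq_bot_iff]
  intro A hA
  rw [Matrix.SpecialLinearGroup.mem_center_iff] at hA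
  obtain ⟨r, hr, hrA⟩ := hA
  rw [Fintype.card_fin] at hr
  have h2 := two_eq h4
  have : (r - 1) ^ 2 = 0 := by linear_combination hr + (1 - r) * h2
  have hr1 : r = 1 := sub_eq_zero.1 (pow_eq_zero_iff (two_ne_zero)|>.1 this)
  rw [mem_bot]
  apply Subtype.ext
  rw [← hrA, hr1, map_one]
  rfl

theorem exists_equiv (h4 : Fintype.card F = 4) :
    Nonempty (Matrix.SpecialLinearGroup (Fin 2) F ≃* alternatingGroup (Fin 5)) := by
  obtain ⟨e⟩ := Cfsg.Agent.S0252.result h4
  let f : Matrix.SpecialLinearGroup (Fin 2) F →* Matrix.ProjectiveSpecialLinearGroup (Fin 2) F :=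
    QuotientGroup.mk' _
  have hf : Function.Bijective f := by
    refine ⟨?_, QuotientGroup.mk'_surjective _⟩
    rw [← MonoidHom.ker_eq_bot_iff, QuotientGroup.ker_mk', center_eq_bot h4]
  exact ⟨(MulEquiv.ofBijective f hf).trans e⟩

end SL

section emb

variable {F : Type*} [Field F] [Fintype F]

variable (F) in
/-- The affine group. -/
abbrev Aff : Subgroup (Matrix.SpecialLinearGroup (Fin 3) F) :=
  Subgroup.closure {M : Matrix.SpecialLinearGroup (Fin 3) F |
          (M : Matrix (Fin 3) (Fin 3) F) 2 0 = 0 ∧ (M : Matrix (Fin 3) (Fin 3) F) 2 1 = 0 ∧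
          (M : Matrix (Fin 3) (Fin 3) F) 2 2 = 1}

/-- The linear part. -/
def lin (M : Aff F) : Matrix.SpecialLinearGroup (Fin 2) F :=
  ⟨!![(M.1 : Matrix (Fin 3) (Fin 3) F) 0 0, (M.1 : Matrix (Fin 3) (Fin 3) F) 0 1;
    (M.1 : Matrix (Fin 3) (Fin 3) F) 1 0, (M.1 : Matrix (Fin 3) (Fin 3) F) 1 1], by
    obtain ⟨h1, h2, h3⟩ := Cfsg.Agent.S3488.shape_of_mem_closure M.2
    have hd := M.1.2
    rw [Matrix.det_fin_three] at hd
    rw [Matrix.det_fin_two_of]
    change (M.1 : Matrix (Fin 3) (Fin 3) F) 2 0 = 0 at h1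
    change (M.1 : Matrix (Fin 3) (Fin 3) F) 2 1 = 0 at h2
    change (M.1 : Matrix (Fin 3) (Fin 3) F) 2 2 = 1 at h3
    rw [h1, h2, h3] at hd
    linear_combination hd⟩

/-- The translation part. -/
def trans (M : Aff F) : Fin 2 → F :=
  ![(M.1 : Matrix (Fin 3) (Fin 3) F) 0 2, (M.1 : Matrix (Fin 3) (Fin 3) F) 1 2]

theorem entries (A B : Aff F) (i j : Fin 3) :
    ((A * B).1 : Matrix (Fin 3) (Fin 3) F) i j =
      (A.1 : Matrix (Fin 3) (Fin 3) F) i 0 * (B.1 : Matrix (Fin 3) (Fin 3) F) 0 j +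
      (A.1 : Matrix (Fin 3) (Fin 3) F) i 1 * (B.1 : Matrix (Fin 3) (Fin 3) F) 1 j +
      (A.1 : Matrix (Fin 3) (Fin 3) F) i 2 * (B.1 : Matrix (Fin 3) (Fin 3) F) 2 j := by
  rw [Subgroup.coe_mul, Matrix.SpecialLinearGroup.coe_mul, Matrix.mul_apply, Fin.sum_univ_three]

theorem lin_mul (A B : Aff F) : lin (A * B) = lin A * lin B := by
  obtain ⟨h1, h2, h3⟩ := Cfsg.Agent.S3488.shape_of_mem_closure B.2
  change (B.1 : Matrix (Fin 3) (Fin 3) F) 2 0 = 0 at h1
  change (B.1 : Matrix (Fin 3) (Fin 3) F) 2 1 = 0 at h2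
  apply Subtype.ext
  rw [Matrix.SpecialLinearGroup.coe_mul]
  ext i j
  rw [Matrix.mul_apply, Fin.sum_univ_two]
  fin_cases i <;> fin_cases j <;> simp [lin, entries, h1, h2] <;>
  · simp [Matrix.mul_apply, Fin.sum_univ_three, h1, h2]

theorem trans_mul (A B : Aff F) :
    trans (A * B) = trans A + (lin A : Matrix (Fin 2) (Fin 2) F).mulVec (trans B) := by
  obtain ⟨h1, h2, h3⟩ := Cfsg.Agent.S3488.shape_of_mem_closure B.2
  change (B.1 : Matrix (Fin 3) (Fin 3) F) 2 2 = 1 at h3
  funext i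
  fin_cases i
  · change ((A * B).1 : Matrix (Fin 3) (Fin 3) F) 0 2 = _
    rw [entries, h3]
    simp [trans, lin, Matrix.mulVec, dotProduct, Fin.sum_univ_two]
    ring
  · change ((A * B).1 : Matrix (Fin 3) (Fin 3) F) 1 2 = _
    rw [entries, h3]
    simp [trans, lin, Matrix.mulVec, dotProduct, Fin.sum_univ_two]
    ring

theorem eq_one (A : Aff F) (hl : lin A = 1) (ht : trans A = 0) : A = 1 := by
  obtain ⟨h1, h2, h3⟩ := Cfsg.Agent.S3488.shape_of_mem_closure A.2
  have hl' : ∀ i j, (lin A : Matrix (Fin 2) (Fin 2) F) i j = (1 : Matrix (Fin 2) (Fin 2) F) i j := by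
    intro i j
    rw [hl]
    rfl
  have l00 := hl' 0 0
  have l01 := hl' 0 1
  have l10 := hl' 1 0
  have l11 := hl' 1 1
  have t0 := congrFun ht 0
  have t1 := congrFun ht 1
  apply Subtype.ext
  apply Subtype.ext
  ext i j
  fin_cases i <;> fin_cases j
  · exact l00
  · exact l01
  · exact t0
  · exact l10
  · exact l11
  · exact t1
  · exact h1
  · exact h2
  · exact h3

variable {G : Type*} [Group G] [Finite G]

/-- The embedding of `2⁴ : SL₂(4)`. -/
theorem exists_emb (h4 : Fintype.card F = 4) {N : Subgroup G} (hN : N.Normal)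
    (hA : Cfsg.IsElementaryAbelian 2 N) (π : G →* alternatingGroup (Fin 5))
    (hπ : Function.Surjective π) (hk : π.ker = N) (hne : N ≠ ⊥)
    (h3 : ∀ g : G, (π g) ^ 3 = 1 → π g ≠ 1 → ∀ n ∈ N, n * g = g * n → n = 1)
    (h5 : ∀ g : G, (π g) ^ 5 = 1 → π g ≠ 1 → ∀ n ∈ N, n * g = g * n → n = 1) :
    ∃ f : Aff F →* G, Function.Injective f := by
  obtain ⟨φ, hφ⟩ := exists_split hN π hπ hk h3 h5
  obtain ⟨e⟩ := exists_equiv h4
  obtain ⟨hcomm, hsq⟩ := hA
  letI : CommGroup N := { (inferInstance : Group N) with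
    mul_comm := fun a b => hcomm.is_comm.comm a b }
  let ψ : Matrix.SpecialLinearGroup (Fin 2) F →* G := φ.comp e.toMonoidHom
  have hπψ : ∀ g, π (ψ g) = e g := fun g => hφ _
  let ρ : Matrix.SpecialLinearGroup (Fin 2) F →* MulAut N := (MulAut.conjNormal).comp ψ
  have hρ : ∀ g (n : N), (ρ g n : G) = ψ g * n * (ψ g)⁻¹ := fun g n => by
    simp [ρ, MulAut.conjNormal_apply]
  have h2N : ∀ n : N, n * n = 1 := fun n => by
    apply Subtype.ext
    have := hsq n.1 n.2
    rw [pow_two] at this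
    exact this
  have hfix : ∀ g : Matrix.SpecialLinearGroup (Fin 2) F, g ^ 3 = 1 → g ≠ 1 →
      ∀ n : N, ρ g n = n → n = 1 := by
    intro g hg hg1 n hn
    have hn' := congrArg Subtype.val hn
    rw [hρ] at hn'
    apply Subtype.ext
    refine h3 (ψ g) (by rw [hπψ, ← map_pow, hg, map_one]) ?_ n.1 n.2 ?_
    · rw [hπψ]
      intro h
      exact hg1 (e.injective (by rw [h, map_one]))
    · rw [mul_inv_eq_iff_eq_mul] at hn'
      exact hn'.symm
  -- the fixed vector
  obtain ⟨w, hw1, hw⟩ : ∃ w : N, w ≠ 1 ∧ ∀ b : F, ρ (upper b) w = w := by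
    have h2 := two_eq h4
    let T : Multiplicative F →* Matrix.SpecialLinearGroup (Fin 2) F :=
      { toFun := fun b => upper (Multiplicative.toAdd b)
        map_one' := by
          apply Subtype.ext
          ext i j
          fin_cases i <;> fin_cases j <;> simp [upper]
        map_mul' := fun a b => by
          apply Subtype.ext
          rw [Matrix.SpecialLinearGroup.coe_mul]
          ext i j
          rw [Matrix.mul_apply, Fin.sum_univ_two]
          fin_cases i <;> fin_cases j <;> simp [upper, add_comm] }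
    letI : MulAction (Multiplicative F) N := MulAction.compHom N (ρ.comp T)
    have hT : ∀ (b : Multiplicative F) (n : N), b • n = ρ (upper (Multiplicative.toAdd b)) n :=
      fun b n => rfl
    have hp : IsPGroup 2 (Multiplicative F) := by
      intro b
      refine ⟨1, ?_⟩
      rw [pow_one, pow_two]
      apply Multiplicative.toAdd.injective
      change Multiplicative.toAdd b + Multiplicative.toAdd b = 0
      rw [← two_smul F (Multiplicative.toAdd b), h2, zero_smul]
    haveI : Fact (Nat.Prime 2) := ⟨Nat.prime_two⟩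
    have hd : 2 ∣ Nat.card N := by
      obtain ⟨n, hn, hn1⟩ := (Subgroup.ne_bot_iff_exists_ne_one).1 hne |>.elim
        (fun n h => (⟨n.1, n.2, fun h' => h (Subtype.ext h')⟩ : ∃ n, n ∈ N ∧ n ≠ 1))
      have : orderOf (⟨n, hn⟩ : N) = 2 := by
        apply orderOf_eq_prime
        · rw [pow_two, h2N]
        · intro h
          exact hn1 (congrArg Subtype.val h)
      rw [← this]
      exact orderOf_dvd_natCard _
    have h1 : (1 : N) ∈ MulAction.fixedPoints (Multiplicative F) N := by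
      intro b
      rw [hT, map_one]
    obtain ⟨w, hw, hw1⟩ := hp.exists_fixed_point_of_prime_dvd_card_of_fixed_point N hd h1
    refine ⟨w, hw1.symm, fun b => ?_⟩
    have := hw (Multiplicative.ofAdd b)
    rwa [hT] at this
  have hadd := phi_add h4 hw h2N hfix
  have hmv := phi_mulVec hw
  let f : Aff F →* G :=
    { toFun := fun M => ((phi ρ w (trans M) : N) : G) * ψ (lin M)
      map_one' := by
        have h1 : trans (1 : Aff F) = 0 := by
          funext i
          fin_cases i <;> simp [trans]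
        have h2 : lin (1 : Aff F) = 1 := by
          apply Subtype.ext
          ext i j
          fin_cases i <;> fin_cases j <;> simp [lin]
        rw [h1, h2, phi_zero, map_one, Subgroup.coe_one, one_mul]
      map_mul' := fun A B => by
        rw [lin_mul, trans_mul, hadd, hmv, map_mul, Subgroup.coe_mul, hρ]
        group }
  refine ⟨f, ?_⟩
  rw [injective_iff_map_eq_one]
  intro M hM
  have hM' : ((phi ρ w (trans M) : N) : G) * ψ (lin M) = 1 := hM
  have hπ1 : π ((phi ρ w (trans M) : N) : G) = 1 := by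
    rw [← MonoidHom.mem_ker, hk]
    exact (phi ρ w (trans M)).2
  have hl : lin M = 1 := by
    have := congrArg π hM'
    rw [map_mul, hπ1, one_mul, hπψ, map_one] at this
    exact e.injective (by rw [this, map_one])
  have ht : trans M = 0 := by
    by_contra h
    rw [hl, map_one, mul_one] at hM'
    exact phi_ne_one hw hw1 h (Subtype.ext hM')
  exact eq_one M hl ht

end emb

end Cfsg.Agent.H406.CritFour
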