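import Mathlib

/-!
# Frobenius groups `r^m : q` and their direct products

For distinct primes `r`, `q` there is a finite group with a normal Sylow `r`-subgroup whose set of
element orders is `{1, r, q}`.
-/

set_option autoImplicit false
set_option linter.unusedSectionVars false
set_option linter.style.haveILetI false

namespace Cfsg.Agent.H406.CritProd

open Multiplicative

/-- `G` has a normal Sylow `r`-subgroup. -/
def NS (r : ℕ) (G : Type*) [Group G] : Prop :=
  ∃ N : Subgroup G, N.Normal ∧ IsPGroup r N ∧ ¬ r ∣ N.index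

section NS

variable {G : Type*} [Group G] [Finite G] {r : ℕ}

theorem NS.subgroup (h : NS r G) (H : Subgroup G) : NS r H := by
  obtain ⟨N, hN, hp, hi⟩ := h
  refine ⟨N.subgroupOf H, inferInstance, ?_, fun hd => hi ?_⟩
  · intro x
    obtain ⟨k, hk⟩ := hp ⟨x.1, x.2⟩
    refine ⟨k, ?_⟩
    apply Subtype.ext
    apply Subtype.ext
    simpa [Subtype.ext_iff] using hk
  · exact hd.trans (Subgroup.relIndex_dvd_index_of_normal N H)

theorem NS.map {G' : Type*} [Group G'] (h : NS r G) (f : G →* G')
    (hf : Function.Surjective f) : NS r G' := by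
  obtain ⟨N, hN, hp, hi⟩ := h
  refine ⟨N.map f, hN.map f hf, hp.map f, fun hd => hi ?_⟩
  exact hd.trans (Subgroup.index_map_dvd N hf)

/-- Elements of prime order in the two normal Sylow subgroups multiply to an element of order
`r * q`. -/
theorem exists_mul {q : ℕ} (hr : r.Prime) (hq : q.Prime) (hne : r ≠ q) (h₁ : NS r G)
    (h₂ : NS q G) (hx : r ∣ Nat.card G) (hy : q ∣ Nat.card G) :
    ∃ g : G, orderOf g = r * q := by
  obtain ⟨N, hN, hp, hi⟩ := h₁
  obtain ⟨M, hM, hpM, hiM⟩ := h₂
  haveI := Fact.mk hr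
  haveI := Fact.mk hq
  have hrN : r ∣ Nat.card N := by
    rw [← N.card_mul_index] at hx
    exact (hr.dvd_mul.1 hx).resolve_right hi
  have hqM : q ∣ Nat.card M := by
    rw [← M.card_mul_index] at hy
    exact (hq.dvd_mul.1 hy).resolve_right hiM
  obtain ⟨x, hx⟩ := exists_prime_orderOf_dvd_card' r hrN
  obtain ⟨y, hy⟩ := exists_prime_orderOf_dvd_card' q hqM
  have hd : Disjoint N M := by
    rw [Subgroup.disjoint_def]
    intro g hg hg'
    obtain ⟨k, hk⟩ := hp ⟨g, hg⟩
    obtain ⟨l, hl⟩ := hpM ⟨g, hg'⟩
    have hk : g ^ (r ^ k) = 1 := by simpa [Subtype.ext_iff] using hk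
    have hl : g ^ (q ^ l) = 1 := by simpa [Subtype.ext_iff] using hl
    have := Nat.dvd_gcd (orderOf_dvd_of_pow_eq_one hk) (orderOf_dvd_of_pow_eq_one hl)
    rw [((Nat.coprime_primes hr hq).2 hne).pow k l] at this
    exact orderOf_eq_one_iff.1 (Nat.dvd_one.1 this)
  have hc := Subgroup.commute_of_normal_of_disjoint N M hN hM hd x y x.2 y.2
  refine ⟨x * y, ?_⟩
  rw [hc.orderOf_mul_eq_mul_orderOf_of_coprime, Subgroup.orderOf_coe, Subgroup.orderOf_coe, hx, hy]
  rw [Subgroup.orderOf_coe, Subgroup.orderOf_coe, hx, hy]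
  exact (Nat.coprime_primes hr hq).2 hne

end NS

section Frob

variable {K : Type} [Field K] [Finite K]

/-- action of `⟨ζ⟩` on the additive group. -/
def act (ζ : Kˣ) : Subgroup.zpowers ζ →* MulAut (Multiplicative K) where
  toFun z := AddEquiv.toMultiplicative (DistribMulAction.toAddEquiv K (z : Kˣ))
  map_one' := by
    ext x
    simp [AddEquiv.toMultiplicative]
  map_mul' a b := by
    ext x
    simp [AddEquiv.toMultiplicative, mul_smul]

theorem act_apply (ζ : Kˣ) (z : Subgroup.zpowers ζ) (x : K) :
    act ζ z (ofAdd x) = ofAdd (((z : Kˣ) : K) * x) := rfl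

theorem spectrum (r q : ℕ) (hr : r.Prime) (hq : q.Prime) [CharP K r] (ζ : Kˣ)
    (hζ : orderOf ζ = q) :
    Set.range (orderOf : Multiplicative K ⋊[act ζ] Subgroup.zpowers ζ → ℕ) = {1, r, q} := by
  classical
  haveI := Fact.mk hr
  haveI := Fact.mk hq
  have hl : ∀ x : K, orderOf (SemidirectProduct.inl (ofAdd x) :
      Multiplicative K ⋊[act ζ] Subgroup.zpowers ζ) = if x = 0 then 1 else r := by
    intro x
    rw [orderOf_injective _ SemidirectProduct.inl_injective]
    split_ifs with h
    · subst h
      exact orderOf_eq_one_iff.2 rfl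
    · apply orderOf_eq_prime
      · change ofAdd (r • x) = 1
        rw [nsmul_eq_mul, CharP.cast_eq_zero, zero_mul]
        rfl
      · intro h'
        exact h (ofAdd.injective h')
  have hrr : ∀ z : Subgroup.zpowers ζ, z ≠ 1 → orderOf (SemidirectProduct.inr z :
      Multiplicative K ⋊[act ζ] Subgroup.zpowers ζ) = q := by
    intro z hz
    rw [orderOf_injective _ SemidirectProduct.inr_injective]
    have h1 : orderOf z ∣ q := by
      have := orderOf_dvd_natCard z
      rwa [Nat.card_zpowers, hζ] at this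
    rcases (Nat.dvd_prime hq).1 h1 with h | h
    · exact absurd (orderOf_eq_one_iff.1 h) hz
    · exact h
  have hζ1 : (⟨ζ, Subgroup.mem_zpowers ζ⟩ : Subgroup.zpowers ζ) ≠ 1 := by
    intro h
    have h2 : ζ = 1 := by simpa [Subtype.ext_iff] using h
    rw [h2, orderOf_one] at hζ
    exact hq.one_lt.ne hζ
  ext m
  constructor
  · rintro ⟨g, rfl⟩
    obtain ⟨a, z⟩ := g
    by_cases hz : z = 1
    · subst hz
      have : (⟨a, 1⟩ : Multiplicative K ⋊[act ζ] Subgroup.zpowers ζ) =
          SemidirectProduct.inl (ofAdd (toAdd a)) := rfl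
      rw [this, hl]
      split_ifs <;> simp
    · -- conjugate to `inr z`
      have hz' : (1 : K) - ((z : Kˣ) : K) ≠ 0 := by
        intro h
        apply hz
        apply Subtype.ext
        apply Units.ext
        exact (sub_eq_zero.1 h).symm
      set b : K := toAdd a / (1 - ((z : Kˣ) : K)) with hb
      have h : (⟨a, z⟩ : Multiplicative K ⋊[act ζ] Subgroup.zpowers ζ) =
          SemidirectProduct.inl (ofAdd b) * SemidirectProduct.inr z *
            (SemidirectProduct.inl (ofAdd b))⁻¹ := by
        ext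
        · rw [SemidirectProduct.mul_left, SemidirectProduct.mul_left, SemidirectProduct.inv_left]
          simp only [SemidirectProduct.left_inl, SemidirectProduct.right_inl,
            SemidirectProduct.left_inr, map_one, mul_one, SemidirectProduct.mul_right, one_mul,
            SemidirectProduct.right_inr, inv_one, MulAut.one_apply]
          rw [← ofAdd_neg, act_apply, ← ofAdd_add]
          have h5 : toAdd a = b * (1 - ((z : Kˣ) : K)) := by
            rw [hb, div_mul_cancel₀ _ hz']
          have h6 : b + ((z : Kˣ) : K) * -b = toAdd a := by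
            rw [h5]
            ring
          rw [h6]
          rfl
        · simp
      rw [h]
      have h3 : orderOf ((SemidirectProduct.inl (ofAdd b) * SemidirectProduct.inr z *
            (SemidirectProduct.inl (ofAdd b))⁻¹ :
            Multiplicative K ⋊[act ζ] Subgroup.zpowers ζ)) = orderOf (SemidirectProduct.inr z :
      Multiplicative K ⋊[act ζ] Subgroup.zpowers ζ) := by
        rw [← MulAut.conj_apply]
        exact orderOf_injective (MulAut.conj _).toMonoidHom (MulAut.conj _).injective _
      rw [h3, hrr z hz]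
      simp
  · rintro (rfl | rfl | rfl)
    · exact ⟨1, orderOf_one⟩
    · exact ⟨SemidirectProduct.inl (ofAdd 1), by rw [hl, if_neg one_ne_zero]⟩
    · exact ⟨_, hrr _ hζ1⟩

theorem ns (r q : ℕ) (hr : r.Prime) (hq : q.Prime) (hne : r ≠ q) [CharP K r] (ζ : Kˣ)
    (hζ : orderOf ζ = q) : NS r (Multiplicative K ⋊[act ζ] Subgroup.zpowers ζ) := by
  haveI := Fact.mk hr
  refine ⟨(SemidirectProduct.rightHom : Multiplicative K ⋊[act ζ] Subgroup.zpowers ζ →* _).ker,
    inferInstance, ?_, ?_⟩
  · intro x
    refine ⟨1, ?_⟩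
    obtain ⟨⟨a, z⟩, hx⟩ := x
    have hz : z = 1 := hx
    subst hz
    apply Subtype.ext
    have : (⟨a, 1⟩ : Multiplicative K ⋊[act ζ] Subgroup.zpowers ζ) =
          SemidirectProduct.inl a := rfl
    simp only [Subgroup.coe_pow, Subgroup.coe_one, pow_one]
    rw [this, ← map_pow]
    have h2 : a ^ r = 1 := by
      change ofAdd (r • toAdd a) = 1
      rw [nsmul_eq_mul, CharP.cast_eq_zero, zero_mul]
      rfl
    rw [h2, map_one]
  · rw [Subgroup.index_ker, MonoidHom.range_eq_top.2 SemidirectProduct.rightHom_surjective,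
      Subgroup.card_top, Nat.card_zpowers, hζ]
    intro h
    exact hne ((Nat.prime_dvd_prime_iff_eq hr hq).1 h)

end Frob

/-- For distinct primes `r`, `q` there is a finite group with a normal Sylow `r`-subgroup and with
set of element orders `{1, r, q}`. -/
theorem exists_frob (r q : ℕ) (hr : r.Prime) (hq : q.Prime) (hne : r ≠ q) :
    ∃ (F : Type) (_ : Group F) (_ : Finite F), NS r F ∧
      Set.range (orderOf : F → ℕ) = {1, r, q} := by
  haveI := Fact.mk hr
  haveI := Fact.mk hq
  have hq1 : q - 1 ≠ 0 := by have := hq.two_le; omega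
  have hcard : Nat.card (GaloisField r (q - 1)) = r ^ (q - 1) := GaloisField.card r (q - 1) hq1
  haveI : Finite (GaloisField r (q - 1)) := inferInstance
  have hd : q ∣ Nat.card (GaloisField r (q - 1))ˣ := by
    rw [Nat.card_units, hcard]
    have : r ^ (q - 1) ≡ 1 [MOD q] := by
      have := Nat.ModEq.pow_totient ((Nat.coprime_primes hr hq).2 hne)
      rwa [Nat.totient_prime hq] at this
    exact (Nat.modEq_iff_dvd' (Nat.one_le_pow _ _ hr.pos)).1 this.symm
  obtain ⟨ζ, hζ⟩ := exists_prime_orderOf_dvd_card' q hd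
  refine ⟨Multiplicative (GaloisField r (q - 1)) ⋊[act ζ] Subgroup.zpowers ζ, inferInstance,
    ?_, ns r q hr hq hne ζ hζ, spectrum r q hr hq ζ hζ⟩
  exact Finite.of_equiv _ SemidirectProduct.equivProd.symm

end Cfsg.Agent.H406.CritProd
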