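import Cfsg.Agent.H406.LieThirteen

/-!
# Finite 2-groups with a Frobenius group `13 : 3` of automorphisms

If `13` acts without fixed points and the fixed points of `3` are elementary abelian, then the
2-group has class at most two and exponent dividing four.
-/

set_option autoImplicit false
set_option linter.unusedSectionVars false
set_option linter.style.haveILetI false

namespace Cfsg.Agent.H406.ExpFour

open Cfsg.Agent.H449 Cfsg.Agent.H406.LieThirteen

open scoped commutatorElement

universe u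

variable {M : Type u} [Group M]

theorem tm_add {L : Type*} [LieRing L] (A : Type) [CommRing A] (s : A) (x y : L) :
    tm A s (x + y) = tm A s x + tm A s y := TensorProduct.tmul_add _ _ _

theorem map_mem (α : M →* M) (k : ℕ) (x : M) (hx : x ∈ (lcsSeries M).H k) :
    α x ∈ (lcsSeries M).H k := by
  have h1 : α x ∈ ((⊤ : Subgroup M).lowerCentralSeries (k - 1)).map α := ⟨x, hx, rfl⟩
  rw [Subgroup.map_lowerCentralSeries] at h1
  exact Subgroup.lowerCentralSeries_mono _ le_top h1

variable [Finite M]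

/-- A fixed point free endomorphism has no fixed points on the factors. -/
theorem fixed_zero (b : M →* M) (hfix : ∀ x, b x = x → x = 1) (k : ℕ) (u : (lcsSeries M).W k)
    (hu : (lcsSeries M).mapW b k u = u) : u = 0 := by
  have hb := map_mem b
  haveI : Finite ((lcsSeries M).W k) := by
    change Finite (Additive (↥((lcsSeries M).H k) ⧸ ((lcsSeries M).H (k + 1)).subgroupOf ((lcsSeries M).H k)))
    infer_instance
  -- the map `y ↦ y⁻¹ b y` is onto on `H k`
  let f : (lcsSeries M).H k → (lcsSeries M).H k := fun y => ⟨y.1⁻¹ * b y.1, mul_mem (inv_mem y.2) (hb k _ y.2)⟩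
  have hf : Function.Injective f := by
    intro y z hyz
    have h1 : y.1⁻¹ * b y.1 = z.1⁻¹ * b z.1 := congrArg Subtype.val hyz
    have h2 : b (z.1 * y.1⁻¹) = z.1 * y.1⁻¹ := by
      rw [map_mul, map_inv]
      have h3 : b z.1 = z.1 * (y.1⁻¹ * b y.1) := by rw [h1]; group
      rw [h3]
      group
    have h3 := hfix _ h2
    apply Subtype.ext
    exact (mul_inv_eq_one.1 h3).symm
  have hfs := Finite.injective_iff_surjective.1 hf
  let g : (lcsSeries M).W k → (lcsSeries M).W k := fun u => (lcsSeries M).mapW b k u - u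
  have hgs : Function.Surjective g := by
    intro w
    obtain ⟨y, hy⟩ := hfs ⟨(lcsSeries M).rep w, (lcsSeries M).rep_mem w⟩
    refine ⟨(lcsSeries M).cls k y.1, ?_⟩
    have h1 : y.1⁻¹ * b y.1 = (lcsSeries M).rep w := congrArg Subtype.val hy
    change (lcsSeries M).mapW b k ((lcsSeries M).cls k y.1) - (lcsSeries M).cls k y.1 = w
    rw [(lcsSeries M).mapW_cls hb y.2, ← (lcsSeries M).cls_rep w, ← h1, (lcsSeries M).cls_mul (inv_mem y.2) (hb k _ y.2),
      (lcsSeries M).cls_inv y.2]
    abel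
  have hgi := Finite.injective_iff_surjective.2 hgs
  apply hgi
  change (lcsSeries M).mapW b k u - u = (lcsSeries M).mapW b k 0 - 0
  have h0 : (lcsSeries M).mapW b k 0 = 0 := by
    have := (lcsSeries M).mapW_add hb k 0 0
    rw [add_zero] at this
    exact left_eq_add.1 this
  rw [hu, h0, sub_self, sub_self]

/-- A class fixed by an automorphism of order three has a fixed representative. -/
theorem exists_fixed (hM : IsPGroup 2 M) (c : MulAut M) (hc : c ^ 3 = 1) (k : ℕ)
    (u : (lcsSeries M).W k) (hu : (lcsSeries M).mapW (c : M ≃* M).toMonoidHom k u = u) :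
    ∃ e ∈ (lcsSeries M).H k, c e = e ∧ (lcsSeries M).cls k e = u := by
  classical
  have hcm := map_mem ((c : M ≃* M).toMonoidHom)
  have hcm' : ∀ k, ∀ x ∈ (lcsSeries M).H k, c x ∈ (lcsSeries M).H k := hcm
  -- the coset
  let X : Set M := {x | x ∈ (lcsSeries M).H k ∧ (lcsSeries M).cls k x = u}
  have hX : ∀ x ∈ X, c x ∈ X := by
    rintro x ⟨hx, hxu⟩
    refine ⟨hcm' k x hx, ?_⟩
    have := (lcsSeries M).mapW_cls hcm hx
    rw [hxu] at this
    exact this.symm.trans hu
  let e0 := (lcsSeries M).rep u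
  have he0 : e0 ∈ (lcsSeries M).H k := (lcsSeries M).rep_mem u
  have hcard : Nat.card X = Nat.card ((lcsSeries M).H (k + 1)) := by
    refine Nat.card_congr ⟨fun x => ⟨x.1 * e0⁻¹, ?_⟩, fun h => ⟨h.1 * e0, ?_, ?_⟩, ?_, ?_⟩
    · exact ((lcsSeries M).cls_eq_iff x.2.1 he0).1 (x.2.2.trans ((lcsSeries M).cls_rep u).symm)
    · exact mul_mem ((lcsSeries M).anti (Nat.le_succ k) h.2) he0
    · rw [(lcsSeries M).cls_mul ((lcsSeries M).anti (Nat.le_succ k) h.2) he0, (lcsSeries M).cls_eq_zero h.2, zero_add, (lcsSeries M).cls_rep]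
    · intro x
      apply Subtype.ext
      simp
    · intro x
      apply Subtype.ext
      simp
  let P := Subgroup.zpowers c
  have hXz : ∀ p : P, ∀ x ∈ X, (p : MulAut M) x ∈ X := by
    rintro ⟨p, hp⟩ x hx
    obtain ⟨n, hn⟩ := (Subgroup.mem_zpowers_iff).1 hp
    have h3 : ∃ m : ℕ, p = c ^ m := by
      refine ⟨(n % 3).toNat, ?_⟩
      rw [← hn]
      have h4 : ((n % 3).toNat : ℤ) = n % 3 := Int.toNat_of_nonneg (Int.emod_nonneg _ (by norm_num))
      rw [← zpow_natCast, h4]
      have h5 : c ^ (3 : ℤ) = 1 := by exact_mod_cast hc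
      conv_lhs => rw [← Int.emod_add_mul_ediv n 3, zpow_add, zpow_mul, h5, one_zpow, mul_one]
    obtain ⟨m, rfl⟩ := h3
    change (c ^ m) x ∈ X
    clear hn hp
    induction m with
    | zero => simpa using hx
    | succ m ih =>
      rw [pow_succ', MulAut.mul_apply]
      exact hX _ ih
  letI : MulAction P X :=
    { smul := fun p x => ⟨(p : MulAut M) x.1, hXz p x.1 x.2⟩
      one_smul := fun x => Subtype.ext rfl
      mul_smul := fun p q x => Subtype.ext rfl }
  have hP : IsPGroup 3 P := by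
    rintro ⟨p, hp⟩
    obtain ⟨n, hn⟩ := (Subgroup.mem_zpowers_iff).1 hp
    refine ⟨1, ?_⟩
    apply Subtype.ext
    change p ^ (3 ^ 1) = 1
    rw [← hn, pow_one, ← zpow_natCast, ← zpow_mul, mul_comm, zpow_mul, zpow_natCast, hc, one_zpow]
  haveI : Fact (Nat.Prime 3) := ⟨Nat.prime_three⟩
  haveI : Fact (Nat.Prime 2) := ⟨Nat.prime_two⟩
  have hnd : ¬ 3 ∣ Nat.card X := by
    rw [hcard]
    obtain ⟨n, hn⟩ := (IsPGroup.iff_card (p := 2)).1 (hM.to_subgroup ((lcsSeries M).H (k + 1)))
    rw [hn]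
    intro h
    have := (Nat.prime_three).dvd_of_dvd_pow h
    omega
  obtain ⟨x, hx⟩ := hP.nonempty_fixed_point_of_prime_not_dvd_card X hnd
  refine ⟨x.1, x.2.1, ?_, x.2.2⟩
  have := hx ⟨c, Subgroup.mem_zpowers c⟩
  exact congrArg Subtype.val this

/-- The main theorem: class at most two and exponent at most four. -/
theorem main (hM : IsPGroup 2 M) (b c : MulAut M) (hb : b ^ 13 = 1) (hc : c ^ 3 = 1)
    (hbc : b * c = c * b ^ 3) (hfix : ∀ x, b x = x → x = 1) (hc2 : ∀ x, c x = x → x * x = 1) :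
    (∀ x y z : M, ⁅⁅x, y⁆, z⁆ = 1) ∧ ∀ x : M, x ^ 4 = 1 := by
  set S := lcsSeries M with hS
  let β : M →* M := (b : M ≃* M).toMonoidHom
  let γ : M →* M := (c : M ≃* M).toMonoidHom
  have hβ := map_mem β
  have hγ := map_mem γ
  let B := GrLie.map S hβ
  let C := GrLie.map S hγ
  have hBl : ∀ x y, B ⁅x, y⁆ = ⁅B x, B y⁆ := GrLie.map_lie S hβ
  have hCl : ∀ x y, C ⁅x, y⁆ = ⁅C x, C y⁆ := GrLie.map_lie S hγ
  have hβ13 : ∀ x, β^[13] x = x := by
    intro x
    have : ∀ n : ℕ, ∀ x, β^[n] x = (b ^ n) x := by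
      intro n
      induction n with
      | zero => intro x; rfl
      | succ n ih => intro x; rw [Function.iterate_succ_apply', ih, pow_succ']; rfl
    rw [this, hb]
    rfl
  have hγ3 : ∀ x, γ (γ (γ x)) = x := by
    intro x
    have := DFunLike.congr_fun hc x
    exact this
  have hBp : ∀ f, (⇑B)^[13] f = f := GrLie.map_iterate S hβ 13 hβ13
  have hcom : ∀ x, β (γ x) = γ (β (β (β x))) := by
    intro x
    exact DFunLike.congr_fun hbc x
  have hBC : ∀ f, B (C f) = C (B (B (B f))) := by
    intro f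
    refine GrLie.ext S fun k => ?_
    change S.mapW β k (S.mapW γ k (f k)) = S.mapW γ k (S.mapW β k (S.mapW β k (S.mapW β k (f k))))
    rw [← S.cls_rep (f k)]
    have h := S.rep_mem (f k)
    rw [S.mapW_cls hγ h, S.mapW_cls hβ (hγ _ _ h), S.mapW_cls hβ h, S.mapW_cls hβ (hβ _ _ h),
      S.mapW_cls hβ (hβ _ _ (hβ _ _ h)), S.mapW_cls hγ (hβ _ _ (hβ _ _ (hβ _ _ h))), hcom]
  have hBfix : ∀ f, B f = f → (1 : ℕ) • f = 0 := by
    intro f hf
    rw [one_smul]
    refine GrLie.ext S fun k => ?_
    exact fixed_zero β hfix k (f k) (congrFun hf k)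
  -- the norm
  have hNorm : ∀ k (w : S.W k), ∃ e ∈ S.H k, c e = e ∧
      S.cls k e = w + S.mapW γ k w + S.mapW γ k (S.mapW γ k w) := by
    intro k w
    apply exists_fixed hM c hc k
    change S.mapW γ k _ = _
    rw [S.mapW_add hγ, S.mapW_add hγ]
    have h3 : S.mapW γ k (S.mapW γ k (S.mapW γ k w)) = w := by
      rw [← S.cls_rep w]
      have h := S.rep_mem w
      rw [S.mapW_cls hγ h, S.mapW_cls hγ (hγ _ _ h), S.mapW_cls hγ (hγ _ _ (hγ _ _ h)), hγ3]
    rw [h3]
    abel
  have hcomm : ∀ e e' : M, c e = e → c e' = e' → ⁅e, e'⁆ = 1 := by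
    intro e e' he he'
    have h1 := hc2 e he
    have h2 := hc2 e' he'
    have h3 := hc2 (e * e') (by rw [map_mul, he, he'])
    rw [commutatorElement_eq_one_iff_mul_comm]
    have i1 : e⁻¹ = e := inv_eq_of_mul_eq_one_left h1
    have i2 : e'⁻¹ = e' := inv_eq_of_mul_eq_one_left h2
    have i3 : (e * e')⁻¹ = e * e' := inv_eq_of_mul_eq_one_left h3
    rw [← i3, mul_inv_rev, i1, i2]
  have hNapp : ∀ (f : GrLie S) (k : ℕ), (f + C f + C (C f)) k =
      f k + S.mapW γ k (f k) + S.mapW γ k (S.mapW γ k (f k)) := fun f k => rfl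
  have hNlie : ∀ f g : GrLie S, ⁅f + C f + C (C f), g + C g + C (C g)⁆ = 0 := by
    intro f g
    refine GrLie.ext S fun k => ?_
    rw [GrLie.lie_apply, GrLie.zero_apply]
    apply Finset.sum_eq_zero
    intro ij hij
    rw [hNapp, hNapp]
    obtain ⟨e, he, hce, hcls⟩ := hNorm ij.1 (f ij.1)
    obtain ⟨e', he', hce', hcls'⟩ := hNorm ij.2 (g ij.2)
    rw [← hcls, ← hcls', S.bk_cls (Finset.HasAntidiagonal.mem_antidiagonal.mp hij) he he',
      hcomm e e' hce hce', S.cls_one]
  have hN2 : ∀ f : GrLie S, (2 : ℕ) • (f + C f + C (C f)) = 0 := by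
    intro f
    refine GrLie.ext S fun k => ?_
    rw [GrLie.nsmul_apply, hNapp, GrLie.zero_apply]
    obtain ⟨e, he, hce, hcls⟩ := hNorm k (f k)
    rw [← hcls, ← S.cls_pow he, pow_two, hc2 e hce, S.cls_one]
  -- torsion
  haveI : Fact (Nat.Prime 2) := ⟨Nat.prime_two⟩
  have hcop : Nat.Coprime (Nat.card M) 13 := by
    obtain ⟨n, hn⟩ := (IsPGroup.iff_card (p := 2)).1 hM
    rw [hn]
    exact Nat.Coprime.pow_left n (by norm_num)
  have htor : ∀ f : GrLie S, Nat.card M • f = 0 := by
    intro f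
    refine GrLie.ext S fun k => ?_
    rw [GrLie.nsmul_apply, GrLie.zero_apply, ← S.cls_rep (f k), ← S.cls_pow (S.rep_mem _),
      pow_card_eq_one', S.cls_one]
  -- scalar extension
  obtain ⟨A, _, hfree, hnt, ω, hω, hsum⟩ := exists_root_ring 13 (by norm_num)
  let χ : AddChar (ZMod 13) A := AddChar.zmodChar 13 hω
  have hχ : ∑ j : ZMod 13, χ j = 0 := by
    have h1 : ∀ j : ZMod 13, χ j = ω ^ j.val := fun j => AddChar.zmodChar_apply hω j
    rw [Finset.sum_congr rfl fun j _ => h1 j, ← hsum]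
    exact Fin.sum_univ_eq_sum_range (fun j => ω ^ j) 13
  let b' := ext A B
  let c' := ext A C
  have hb' : ∀ x y, b' ⁅x, y⁆ = ⁅b' x, b' y⁆ := ext_lie A B hBl
  have hbp' : ∀ x, (⇑b')^[13] x = x := ext_iterate A B 13 hBp
  have h0' : ∀ x, b' x = x → x = 0 := by
    intro x hx
    have := ext_fixed A B 1 hBfix x hx
    rwa [one_smul] at this
  have hbc' : ∀ x, b' (c' x) = c' (b' (b' (b' x))) := by
    intro x
    induction x using Ext.ind with
    | h0 => simp
    | h1 s u => simp only [b', c', ext_tm, hBC]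
    | h2 x y h1 h2 => simp only [map_add, h1, h2]
  have hcb' : ∀ (j : ZMod 13) (x : Ext A (GrLie S)), x ∈ eig χ b' j → c' x ∈ eig χ b' (3 * j) := by
    intro j x hx
    rw [mem_eig] at hx ⊢
    rw [hbc']
    simp only [hx, map_smul, smul_smul, ← AddChar.map_add_eq_mul]
    congr 2
    ring
  have hN' : ∀ x y : Ext A (GrLie S), ⁅x + c' x + c' (c' x), y + c' y + c' (c' y)⁆ = 0 := by
    have hNt : ∀ s (u : GrLie S), tm A s u + c' (tm A s u) + c' (c' (tm A s u)) =
        tm A s (u + C u + C (C u)) := by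
      intro s u
      simp only [c', ext_tm]
      rw [tm_add, tm_add]
    intro x y
    induction x using Ext.ind with
    | h0 => simp
    | h1 s u =>
      induction y using Ext.ind with
      | h0 => simp
      | h1 t v => 
        rw [hNt, hNt, lie_tm, hNlie]
        exact TensorProduct.tmul_zero _ _
      | h2 y y' h1 h2 =>
        have : y + y' + c' (y + y') + c' (c' (y + y')) =
            (y + c' y + c' (c' y)) + (y' + c' y' + c' (c' y')) := by
          simp only [map_add]; abel
        rw [this, lie_add, h1, h2, add_zero]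
    | h2 x x' h1 h2 =>
      have : x + x' + c' (x + x') + c' (c' (x + x')) =
          (x + c' x + c' (c' x)) + (x' + c' x' + c' (c' x')) := by
        simp only [map_add]; abel
      rw [this, add_lie, h1, h2, add_zero]
  have hN2' : ∀ x : Ext A (GrLie S), (2 : ℕ) • (x + c' x + c' (c' x)) = 0 := by
    intro x
    induction x using Ext.ind with
    | h0 => simp
    | h1 s u =>
      have : tm A s u + c' (tm A s u) + c' (c' (tm A s u)) = tm A s (u + C u + C (C u)) := by
        simp only [c', ext_tm]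
        rw [tm_add, tm_add]
      rw [this, nsmul_tm, hN2]
      exact TensorProduct.tmul_zero _ _
    | h2 x x' h1 h2 =>
      have : x + x' + c' (x + x') + c' (c' (x + x')) =
          (x + c' x + c' (c' x)) + (x' + c' x' + c' (c' x')) := by
        simp only [map_add]; abel
      rw [this, smul_add, h1, h2, add_zero]
  have htor' : ∀ x : Ext A (GrLie S), Nat.card M • x = 0 := by
    intro x
    induction x using Ext.ind with
    | h0 => simp
    | h1 s u =>
      rw [nsmul_tm, htor]
      exact TensorProduct.tmul_zero _ _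
    | h2 x y h1 h2 => rw [smul_add, h1, h2, add_zero]
  have h13' : ∀ x : Ext A (GrLie S), (13 : ℕ) • x = 0 → x = 0 := by
    intro x hx
    have h1 : addOrderOf x ∣ Nat.card M := addOrderOf_dvd_of_nsmul_eq_zero (htor' x)
    have h2 : addOrderOf x ∣ 13 := addOrderOf_dvd_of_nsmul_eq_zero hx
    have h3 := Nat.dvd_gcd h1 h2
    rw [hcop] at h3
    exact AddMonoid.addOrderOf_eq_one_iff.1 (Nat.dvd_one.1 h3)
  have hll := lie_lie hχ hb' hcb' hN' h13' h0' hbp'
  have h22 := two_smul_eq_zero hχ hcb' h13' h0' hbp' hN2'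
  -- back to the Lie ring
  have hL : ∀ f g h : GrLie S, ⁅⁅f, g⁆, h⁆ = 0 := by
    intro f g h
    apply tm_injective A
    have := hll (tm A 1 f) (tm A 1 g) (tm A 1 h)
    rwa [lie_tm, lie_tm, mul_one, mul_one] at this
  have hL2 : ∀ f : GrLie S, (2 : ℕ) • f = 0 := by
    intro f
    apply tm_injective A
    rw [← nsmul_tm]
    exact h22 _
  -- back to the group
  have hthree : ∀ x ∈ S.H 3, x ∈ S.H 4 := by
    intro x hx
    have h1 := mem_lieLcs 2 x hx
    have h2 : ∀ f ∈ lieLcs (GrLie S) 2, f = 0 := by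
      intro f hf
      change f ∈ AddSubgroup.closure {z | ∃ x ∈ lieLcs (GrLie S) 1, ∃ y : GrLie S, ⁅x, y⁆ = z} at hf
      induction hf using AddSubgroup.closure_induction with
      | mem f hf =>
        obtain ⟨g, hg, h, rfl⟩ := hf
        change g ∈ AddSubgroup.closure
          {z | ∃ x ∈ lieLcs (GrLie S) 0, ∃ y : GrLie S, ⁅x, y⁆ = z} at hg
        induction hg using AddSubgroup.closure_induction with
        | mem g hg =>
          obtain ⟨g1, -, g2, rfl⟩ := hg
          exact hL g1 g2 h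
        | zero => exact zero_lie _
        | add g g' _ _ h1 h2 => rw [add_lie, h1, h2, add_zero]
        | neg g _ h1 => rw [neg_lie, h1, neg_zero]
      | zero => rfl
      | add f g _ _ h1 h2 => rw [h1, h2, add_zero]
      | neg f _ h1 => rw [h1, neg_zero]
    have h3 := h2 _ h1
    have h4 := congrArg (fun f : GrLie S => f 3) h3
    beta_reduce at h4
    rw [GrLie.single_same, GrLie.zero_apply] at h4
    exact S.mem_of_cls_eq_zero hx h4
  have hle : (⊤ : Subgroup M).lowerCentralSeries 2 ≤ (⊤ : Subgroup M).lowerCentralSeries 3 :=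
    hthree
  have hbot : (⊤ : Subgroup M).lowerCentralSeries 2 = ⊥ := by
    have hall : ∀ n, (⊤ : Subgroup M).lowerCentralSeries 2 ≤
        (⊤ : Subgroup M).lowerCentralSeries (n + 2) := by
      intro n
      induction n with
      | zero => exact le_rfl
      | succ n ih =>
        refine hle.trans ?_
        rw [Subgroup.lowerCentralSeries_succ, show n + 1 + 2 = (n + 2) + 1 by ring,
          Subgroup.lowerCentralSeries_succ]
        exact Subgroup.commutator_mono ih le_rfl
    haveI : Group.IsNilpotent M := hM.isNilpotent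
    obtain ⟨n, hn⟩ := Subgroup.nilpotent_iff_lowerCentralSeries.1 (inferInstance : Group.IsNilpotent M)
    rw [eq_bot_iff]
    refine (hall n).trans ?_
    rw [← hn]
    exact Subgroup.lowerCentralSeries_antitone _ (by omega)
  have hH3 : ∀ x ∈ S.H 3, x = 1 := by
    intro x hx
    have : x ∈ (⊤ : Subgroup M).lowerCentralSeries 2 := hx
    rwa [hbot, Subgroup.mem_bot] at this
  refine ⟨fun x y z => ?_, fun x => ?_⟩
  · apply hH3
    have h1 : ∀ x, x ∈ S.H 1 := fun x => by rw [S.one]; trivial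
    exact S.comm_mem (i := 2) (j := 1) le_rfl (S.comm_mem (i := 1) (j := 1) le_rfl (h1 x) (h1 y))
      (h1 z)
  · have h1 : x ∈ S.H 1 := by rw [S.one]; trivial
    have hsq : ∀ k : ℕ, ∀ x ∈ S.H k, x ^ 2 ∈ S.H (k + 1) := by
      intro k x hx
      apply S.mem_of_cls_eq_zero (pow_mem hx 2)
      rw [S.cls_pow hx]
      have := congrArg (fun f : GrLie S => f k) (hL2 (GrLie.single S k (S.cls k x)))
      beta_reduce at this
      rwa [GrLie.nsmul_apply, GrLie.single_same, GrLie.zero_apply] at this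
    have := hH3 _ (hsq 2 _ (hsq 1 x h1))
    rwa [← pow_mul] at this

end Cfsg.Agent.H406.ExpFour
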