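import Cfsg.Agent.H449.GroupCore

/-!
# Lie rings with a Frobenius group `13 : 3` of automorphisms

If the kernel acts without fixed points and the fixed points of the complement commute, then the Lie
ring has class at most two.
-/

set_option autoImplicit false
set_option linter.unusedSectionVars false
set_option linter.style.haveILetI false

namespace Cfsg.Agent.H406.LieThirteen

open Cfsg.Agent.H449

/-- The pairs of weights that may have a nontrivial bracket. -/
def Dep (a b : ZMod 13) : Prop := b = 3 * a ∨ b = 9 * a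

instance instDecDep (a b : ZMod 13) : Decidable (Dep a b) := by unfold Dep; infer_instance

instance instFactThirteen : Fact (Nat.Prime 13) := ⟨by norm_num⟩

theorem indep : ∀ a b : ZMod 13, a ≠ 0 → b ≠ 0 → a + b ≠ 0 → ¬ Dep a b →
    (a + 3 * b ≠ a + b ∧ a + 9 * b ≠ a + b) ∧
    (3 * a + b ≠ a + b ∧ 3 * a + 3 * b ≠ a + b ∧ 3 * a + 9 * b ≠ a + b) ∧
    (9 * a + b ≠ a + b ∧ 9 * a + 3 * b ≠ a + b ∧ 9 * a + 9 * b ≠ a + b) := by
  decide +kernel

theorem jac : ∀ a b d : ZMod 13, a ≠ 0 → Dep a b → Dep (a + b) d → ¬ Dep b d ∧ ¬ Dep a d := by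
  decide +kernel

theorem ne_three : ∀ i : ZMod 13, i ≠ 0 → 3 * i ≠ i := by decide +kernel

theorem ne_nine : ∀ i : ZMod 13, i ≠ 0 → 3 * (3 * i) ≠ i := by decide +kernel

section

universe u

variable {A : Type} [CommRing A] {U : Type u} [LieRing U] [LieAlgebra A U]
  {χ : AddChar (ZMod 13) A} {b c : U →ₗ[A] U}

theorem iterate_eig {m : ZMod 13} {x : U} (hx : x ∈ eig χ b m) (n : ℕ) :
    (⇑b)^[n] x = (χ (n • m)) • x := by
  induction n with
  | zero => simp
  | succ n ih =>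
    rw [Function.iterate_succ_apply', ih, map_smul, mem_eig.1 hx, smul_smul,
      ← AddChar.map_add_eq_mul, succ_nsmul]

theorem prj_eig (hχ : ∑ j : ZMod 13, χ j = 0) {m m' : ZMod 13} {x : U} (hx : x ∈ eig χ b m') :
    prj χ b m x = if m = m' then (13 : ℕ) • x else 0 := by
  rw [prj]
  have h1 : ∀ i : ZMod 13, χ (-(i * m)) • ((⇑b)^[i.val] x) = χ (i * (m' - m)) • x := by
    intro i
    rw [iterate_eig hx, smul_smul, ← AddChar.map_add_eq_mul]
    congr 2
    rw [nsmul_eq_mul, ZMod.natCast_zmod_val]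
    ring
  rw [Finset.sum_congr rfl fun i _ => h1 i, ← Finset.sum_smul]
  split_ifs with h
  · subst h
    simp only [sub_self, mul_zero, AddChar.map_zero_eq_one, Finset.sum_const, Finset.card_univ,
      ZMod.card]
    rw [nsmul_eq_mul, mul_one, Nat.cast_smul_eq_nsmul]
  · have h2 : ∑ i : ZMod 13, χ (i * (m' - m)) = ∑ j : ZMod 13, χ j := by
      have hi' : m' - m ≠ 0 := sub_ne_zero.2 (Ne.symm h)
      refine Fintype.sum_equiv (Equiv.mulRight₀ (m' - m) hi') _ _ fun j => rfl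
    rw [h2, hχ, zero_smul]

theorem prj_add (m : ZMod 13) (x y : U) : prj χ b m (x + y) = prj χ b m x + prj χ b m y := by
  have h : ∀ n : ℕ, ∀ x y : U, (⇑b)^[n] (x + y) = (⇑b)^[n] x + (⇑b)^[n] y := by
    intro n
    induction n with
    | zero => intro x y; rfl
    | succ n ih => intro x y; rw [Function.iterate_succ_apply, map_add, ih]; rfl
  rw [prj, prj, prj, ← Finset.sum_add_distrib]
  exact Finset.sum_congr rfl fun i _ => by rw [h, smul_add]

theorem prj_zero (m : ZMod 13) : prj χ b m (0 : U) = 0 := by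
  have := prj_add (χ := χ) (b := b) m 0 0
  rw [add_zero] at this
  exact left_eq_add.1 this

variable (hχ : ∑ j : ZMod 13, χ j = 0) (hb : ∀ x y, b ⁅x, y⁆ = ⁅b x, b y⁆)
  (hcb : ∀ (j : ZMod 13) (x : U), x ∈ eig χ b j → c x ∈ eig χ b (3 * j))
  (hN : ∀ x y : U, ⁅x + c x + c (c x), y + c y + c (c y)⁆ = 0)
  (h13 : ∀ x : U, (13 : ℕ) • x = 0 → x = 0)
  (h0 : ∀ x : U, b x = x → x = 0)

include hb in
theorem lie_mem {i j : ZMod 13} {x y : U} (hx : x ∈ eig χ b i) (hy : y ∈ eig χ b j) :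
    ⁅x, y⁆ ∈ eig χ b (i + j) := by
  rw [mem_eig] at hx hy ⊢
  rw [hb, hx, hy, smul_lie, lie_smul, smul_smul, AddChar.map_add_eq_mul]

include h0 in
theorem eig_zero {x : U} (hx : x ∈ eig χ b 0) : x = 0 := by
  rw [mem_eig, AddChar.map_zero_eq_one, one_smul] at hx
  exact h0 x hx

include hχ hb hcb hN h13 h0 in
theorem lie_eq_zero {i j : ZMod 13} {x y : U} (hx : x ∈ eig χ b i) (hy : y ∈ eig χ b j)
    (hd : ¬ Dep i j) : ⁅x, y⁆ = 0 := by
  by_cases hi : i = 0
  · subst hi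
    rw [eig_zero h0 hx, zero_lie]
  by_cases hj : j = 0
  · subst hj
    rw [eig_zero h0 hy, lie_zero]
  by_cases hij : i + j = 0
  · have := lie_mem hb hx hy
    rw [hij] at this
    exact eig_zero h0 this
  obtain ⟨⟨n01, n02⟩, ⟨n10, n11, n12⟩, n20, n21, n22⟩ := indep i j hi hj hij hd
  have hx1 := hcb _ _ hx
  have hx2 := hcb _ _ hx1
  have hy1 := hcb _ _ hy
  have hy2 := hcb _ _ hy1
  have e9 : ∀ k : ZMod 13, 3 * (3 * k) = 9 * k := fun k => by ring
  rw [e9] at hx2 hy2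
  have key := congrArg (prj χ b (i + j)) (hN x y)
  rw [prj_zero] at key
  simp only [add_lie, lie_add, prj_add] at key
  rw [prj_eig hχ (lie_mem hb hx hy), prj_eig hχ (lie_mem hb hx hy1),
    prj_eig hχ (lie_mem hb hx hy2), prj_eig hχ (lie_mem hb hx1 hy),
    prj_eig hχ (lie_mem hb hx1 hy1), prj_eig hχ (lie_mem hb hx1 hy2),
    prj_eig hχ (lie_mem hb hx2 hy), prj_eig hχ (lie_mem hb hx2 hy1),
    prj_eig hχ (lie_mem hb hx2 hy2), if_pos rfl, if_neg (Ne.symm n01), if_neg (Ne.symm n02),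
    if_neg (Ne.symm n10), if_neg (Ne.symm n11), if_neg (Ne.symm n12), if_neg (Ne.symm n20),
    if_neg (Ne.symm n21), if_neg (Ne.symm n22)] at key
  simp only [add_zero] at key
  exact h13 _ key

include hχ hb hcb hN h13 h0 in
theorem lie_lie_eig {i j k : ZMod 13} {x y z : U} (hx : x ∈ eig χ b i) (hy : y ∈ eig χ b j)
    (hz : z ∈ eig χ b k) : ⁅⁅x, y⁆, z⁆ = 0 := by
  by_cases hi : i = 0
  · subst hi
    rw [eig_zero h0 hx, zero_lie, zero_lie]
  by_cases hd : Dep i j
  · by_cases hd' : Dep (i + j) k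
    · obtain ⟨h1, h2⟩ := jac i j k hi hd hd'
      have := leibniz_lie x y z
      rw [lie_eq_zero hχ hb hcb hN h13 h0 hy hz h1, lie_eq_zero hχ hb hcb hN h13 h0 hx hz h2,
        lie_zero, lie_zero, add_zero] at this
      exact this.symm
    · exact lie_eq_zero hχ hb hcb hN h13 h0 (lie_mem hb hx hy) hz hd'
  · rw [lie_eq_zero hχ hb hcb hN h13 h0 hx hy hd, zero_lie]

include hχ hb hcb hN h13 h0 in
theorem lie_lie (hbp : ∀ x, (⇑b)^[13] x = x) (x y z : U) : ⁅⁅x, y⁆, z⁆ = 0 := by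
  apply h13
  apply h13
  apply h13
  have e : (13 : ℕ) • (13 : ℕ) • (13 : ℕ) • ⁅⁅x, y⁆, z⁆ =
      ⁅⁅(13 : ℕ) • x, (13 : ℕ) • y⁆, (13 : ℕ) • z⁆ := by
    rw [lie_nsmul, lie_nsmul, nsmul_lie, nsmul_lie, nsmul_lie]
  rw [e, ← sum_prj χ hχ b x, ← sum_prj χ hχ b y, ← sum_prj χ hχ b z]
  rw [sum_lie]
  simp only [lie_sum, sum_lie]
  apply Finset.sum_eq_zero
  intro i _
  apply Finset.sum_eq_zero
  intro j _
  apply Finset.sum_eq_zero
  intro k _
  exact lie_lie_eig hχ hb hcb hN h13 h0 (prj_mem χ b hbp _ _) (prj_mem χ b hbp _ _)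
    (prj_mem χ b hbp _ _)

include hχ hcb h13 h0 in
theorem two_smul_eq_zero (hbp : ∀ x, (⇑b)^[13] x = x)
    (h2 : ∀ x : U, (2 : ℕ) • (x + c x + c (c x)) = 0) (x : U) : (2 : ℕ) • x = 0 := by
  have key : ∀ (i : ZMod 13) (x : U), x ∈ eig χ b i → (2 : ℕ) • x = 0 := by
    intro i x hx
    by_cases hi : i = 0
    · subst hi
      rw [eig_zero h0 hx, smul_zero]
    · have hx1 := hcb _ _ hx
      have hx2 := hcb _ _ hx1
      have n1 : 3 * i ≠ i := ne_three i hi
      have n2 : 3 * (3 * i) ≠ i := ne_nine i hi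
      have := congrArg (prj χ b i) (h2 x)
      rw [prj_zero] at this
      simp only [smul_add, two_nsmul, prj_add] at this
      rw [prj_eig hχ hx, prj_eig hχ hx1, prj_eig hχ hx2, if_pos rfl, if_neg (Ne.symm n1),
        if_neg (Ne.symm n2)] at this
      apply h13
      rw [two_nsmul, smul_add]
      simpa only [add_zero] using this
  apply h13
  rw [smul_comm, ← sum_prj χ hχ b x, Finset.smul_sum]
  exact Finset.sum_eq_zero fun i _ => key i _ (prj_mem χ b hbp _ _)

end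

end Cfsg.Agent.H406.LieThirteen
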