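import Mathlib

/-!
# The norm lemma for Frobenius groups acting on abelian groups
-/

set_option autoImplicit false
set_option linter.unusedSectionVars false
set_option linter.style.haveILetI false

namespace Cfsg.Agent.H406.NormLemma

section abstract_part

variable {V : Type*} [CommGroup V]

theorem prod_pow_eq_one {p : ℕ} (β : MulAut V) (hβ : β ^ p = 1) (hfix : ∀ v, β v = v → v = 1)
    (w : V) : ∏ j ∈ Finset.range p, (β ^ j) w = 1 := by
  apply hfix
  rw [map_prod]
  have h1 : ∀ j ∈ Finset.range p, β ((β ^ j) w) = (β ^ (j + 1)) w := by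
    intro j _
    rw [pow_succ', MulAut.mul_apply]
  rw [Finset.prod_congr rfl h1]
  rcases Nat.eq_zero_or_pos p with rfl | hp
  · simp
  · obtain ⟨q, rfl⟩ : ∃ q, p = q + 1 := ⟨p - 1, by omega⟩
    rw [Finset.prod_range_succ, hβ, Finset.prod_range_succ' (fun j => (β ^ j) w), pow_zero]

/-- If the norm of the complement vanishes on the abelian group `V`, then `V` has exponent `p`. -/
theorem pow_eq_one {p m k : ℕ} (hp : p.Prime) (hm : 0 < m) (β γ : MulAut V) (hβ : β ^ p = 1)
    (hγβ : γ * β = β ^ k * γ) (hk : ∀ i, 0 < i → i < m → ¬ (p : ℤ) ∣ 1 - (k : ℤ) ^ i)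
    (hfix : ∀ v, β v = v → v = 1) (hN : ∀ v, ∏ i ∈ Finset.range m, (γ ^ i) v = 1) (v : V) :
    v ^ p = 1 := by
  have hcom : ∀ (i : ℕ) (j : ℤ), γ ^ i * β ^ j = β ^ (j * (k : ℤ) ^ i) * γ ^ i := by
    intro i
    induction i with
    | zero => intro j; simp
    | succ i ih =>
      intro j
      have h1 : γ * β ^ (k ^ i * j : ℤ) = β ^ (k * (k ^ i * j) : ℤ) * γ := by
        have h2 : γ * β * γ⁻¹ = β ^ k := by rw [hγβ, mul_inv_cancel_right]
        have h3 : γ * β ^ (k ^ i * j : ℤ) * γ⁻¹ = β ^ (k * (k ^ i * j) : ℤ) := by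
          rw [← conj_zpow, h2, ← zpow_natCast, ← zpow_mul]
        rw [← h3]; group
      rw [pow_succ', mul_assoc, ih, ← mul_assoc, mul_comm j, h1, mul_assoc]
      congr 2
      rw [pow_succ']
      ring
  have key : ∏ j ∈ Finset.range p, (β ^ (j : ℤ))
      (∏ i ∈ Finset.range m, (γ ^ i) ((β ^ (-(j : ℤ))) v)) = 1 := by
    apply Finset.prod_eq_one
    intro j _
    rw [hN, map_one]
  have h2 : ∀ (j : ℕ) (i : ℕ), (β ^ (j : ℤ)) ((γ ^ i) ((β ^ (-(j : ℤ))) v)) =
      ((β ^ (1 - (k : ℤ) ^ i)) ^ j) ((γ ^ i) v) := by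
    intro j i
    rw [← MulAut.mul_apply, ← MulAut.mul_apply, mul_assoc, hcom, ← mul_assoc,
      ← zpow_add, MulAut.mul_apply, ← zpow_natCast (β ^ _), ← zpow_mul]
    congr 3
    ring
  simp only [map_prod, h2] at key
  rw [Finset.prod_comm] at key
  obtain ⟨m', rfl⟩ : ∃ m', m = m' + 1 := ⟨m - 1, by omega⟩
  rw [Finset.prod_range_succ'] at key
  simp only [pow_zero, sub_self, zpow_zero, one_pow, MulAut.one_apply, Finset.prod_const,
    Finset.card_range] at key
  rw [Finset.prod_eq_one, one_mul] at key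
  · exact key
  · intro i hi
    have hnd := hk (i + 1) (by omega) (by have := Finset.mem_range.1 hi; omega)
    set e : ℤ := 1 - (k : ℤ) ^ (i + 1) with he
    apply prod_pow_eq_one
    · rw [← zpow_natCast, ← zpow_mul, mul_comm, zpow_mul, zpow_natCast, hβ, one_zpow]
    · intro w hw
      apply hfix
      have hcop : IsCoprime e (p : ℤ) := by
        have : Prime (p : ℤ) := Nat.prime_iff_prime_int.1 hp
        exact ((this.coprime_iff_not_dvd).2 hnd).symm
      obtain ⟨a, b, hab⟩ := hcop
      have h3 : β = (β ^ e) ^ a := by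
        rw [← zpow_mul]
        have : e * a = 1 - b * p := by linarith
        rw [this, zpow_sub, zpow_one, mul_comm b, zpow_mul, zpow_natCast, hβ, one_zpow, inv_one,
          mul_one]
      rw [h3]
      generalize β ^ e = β' at hw
      -- `β' w = w → β' ^ a w = w`
      have : β' ∈ MulAction.stabilizer (MulAut V) w := hw
      exact (MulAction.stabilizer (MulAut V) w).zpow_mem this a

end abstract_part

theorem list_prod {A : Type*} [CommMonoid A] (f : ℕ → A) (m : ℕ) :
    ((List.range m).map f).prod = ∏ i ∈ Finset.range m, f i := by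
  induction m with
  | zero => simp
  | succ m ih => rw [List.range_succ, List.map_append, List.prod_append, ih,
      Finset.prod_range_succ]; simp

section group_part

variable {G : Type*} [Group G]

/-- Powers of `v c`. -/
theorem mul_pow_eq {V : Subgroup G} [V.Normal] (c : G)
    (v : V) (m : ℕ) : ((v : G) * c) ^ m = ((((List.range m).map (fun i =>
      (((MulAut.conjNormal c : MulAut V) ^ i) v))).prod : V) : G) * c ^ m := by
  induction m with
  | zero => simp
  | succ m ih =>
    rw [pow_succ, ih, List.range_succ, List.map_append, List.prod_append, Subgroup.coe_mul]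
    simp only [List.map_cons, List.map_nil, List.prod_cons, List.prod_nil, mul_one]
    have h1 : ((((MulAut.conjNormal c : MulAut V) ^ m) v : V) : G) = c ^ m * v * (c ^ m)⁻¹ := by
      rw [← map_pow, MulAut.conjNormal_apply]
    rw [h1, pow_succ]
    group

/-- The norm lemma in a group: `V` an abelian normal subgroup, `b` of prime order `p` acting
without fixed points on `V`, `c` normalizing `⟨b⟩` and acting on it with order `m`. Then
`(v c) ^ m ≠ 1` for some `v ∈ V`, unless `V` has exponent `p`. -/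
theorem exists_pow_ne {V : Subgroup G} [hVn : V.Normal] (hV : ∀ x ∈ V, ∀ y ∈ V, x * y = y * x)
    {p m k : ℕ} (hp : p.Prime) (hm : 0 < m) {b c : G} (hb : b ^ p = 1)
    (hcb : c * b = b ^ k * c) (hk : ∀ i, 0 < i → i < m → ¬ (p : ℤ) ∣ 1 - (k : ℤ) ^ i)
    (hfix : ∀ v ∈ V, b * v = v * b → v = 1) (hcm : c ^ m = 1) {v₀ : G} (hv₀ : v₀ ∈ V)
    (hv₀p : v₀ ^ p ≠ 1) : ∃ v ∈ V, (v * c) ^ m ≠ 1 := by
  by_contra hcon
  push Not at hcon
  letI : CommGroup V := { (inferInstance : Group V) with
    mul_comm := fun a b => Subtype.ext (hV a a.2 b b.2) }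
  apply hv₀p
  let β : MulAut V := MulAut.conjNormal b
  let γ : MulAut V := MulAut.conjNormal c
  have h := pow_eq_one (V := V) hp hm β γ (by rw [← map_pow, hb, map_one])
    (by rw [← map_pow, ← map_mul, ← map_mul, hcb]) hk
    (by
      intro v hv
      have h1 : b * v * b⁻¹ = v := by
        have := congrArg Subtype.val hv
        rwa [MulAut.conjNormal_apply] at this
      rw [mul_inv_eq_iff_eq_mul] at h1
      exact Subtype.ext (hfix v v.2 h1))
    (by
      intro v
      have h1 := hcon v v.2
      rw [mul_pow_eq, hcm, mul_one] at h1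
      have h2 : ((List.range m).map (fun i => ((γ ^ i) v))).prod = 1 := Subtype.ext h1
      rw [← h2]
      exact (list_prod (A := V) _ _).symm) ⟨v₀, hv₀⟩
  exact congrArg Subtype.val h

end group_part

end Cfsg.Agent.H406.NormLemma
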