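import Mathlib

/-!
# The binary octahedral group over the field with 13 elements

An irreducible module over `𝔽₁₃` of the binary octahedral group on which the elements of order three
act without fixed points has `13 ^ 4` elements.
-/

set_option autoImplicit false
set_option linter.unusedSectionVars false
set_option linter.style.haveILetI false

namespace Cfsg.Agent.H406.OctAlg

instance instFactThirteen' : Fact (Nat.Prime 13) := ⟨by norm_num⟩

variable {V : Type*} [AddCommGroup V] [Module (ZMod 13) V]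

theorem zmod_eq (n : ℕ) (m : ZMod 13) (h : ((n : ZMod 13)) = m) (v : V) : (n : ZMod 13) • v = m • v := by
  rw [h]

variable {A B T Y : V →ₗ[ZMod 13] V}

section quat

variable (hA : ∀ v, A (A v) = -v) (hB : ∀ v, B (B v) = -v) (hBA : ∀ v, B (A v) = -A (B v))

/-- `-(1 + A + B + A B) / 2`. -/
def om (A B : V →ₗ[ZMod 13] V) : V →ₗ[ZMod 13] V := (6 : ZMod 13) • (LinearMap.id + A + B + A ∘ₗ B)

theorem om_apply (v : V) : om A B v = (6 : ZMod 13) • (v + A v + B v + A (B v)) := rfl

include hA hB hBA

theorem om_A (v : V) : om A B (A v) = B (om A B v) := by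
  simp only [om_apply, map_smul, map_add, hA, hB, hBA, map_neg, neg_neg]
  module

theorem om_B (v : V) : om A B (B v) = A (B (om A B v)) := by
  simp only [om_apply, map_smul, map_add, hA, hB, hBA, map_neg, neg_neg]
  module

theorem om_sq (v : V) : om A B (om A B v) = -v - om A B v := by
  simp only [om_apply, map_smul, map_add, hA, hB, hBA, map_neg, neg_neg]
  have h : (13 : ZMod 13) = 0 := rfl
  have h' : ∀ w : V, (13 : ZMod 13) • w = 0 := fun w => by rw [h, zero_smul]
  have e := h' (-(5 : ZMod 13) • v + (6 : ZMod 13) • A v + (6 : ZMod 13) • B v + (6 : ZMod 13) • A (B v))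
  rw [← sub_eq_zero, ← e]
  module

/-- An eigenvector of `om` together with its images under `A` and `B` does not exist. -/
theorem eigen_eq_zero (hY : ∀ v, Y (Y v) + Y v + v = 0) (hYA : ∀ v, Y (A v) = B (Y v))
    (hYB : ∀ v, Y (B v) = A (B (Y v))) {C : V →ₗ[ZMod 13] V} (hC : ∀ v, Y v = om A B (C v))
    (hCY : ∀ v, om A B (Y v) = Y (om A B v))
    (hCA : ∀ v, C (A v) = A (C v)) (hCB : ∀ v, C (B v) = B (C v)) (r : ZMod 13)
    (hr : r = 3 ∨ r = 9) (v : V) (hv : C v = r • v) : v = 0 := by
  have h13 : (13 : ZMod 13) = 0 := rfl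
  have h' : ∀ w : V, (13 : ZMod 13) • w = 0 := fun w => by rw [h13, zero_smul]
  -- `om w = r w` on the eigenspace
  have key : ∀ w : V, C w = r • w → om A B w = r • w := by
    intro w hw
    have h1 : Y w = r • om A B w := by rw [hC, hw, map_smul]
    have h2 : Y (Y w) = r • r • om A B (om A B w) := by
      rw [h1, map_smul, ← hCY, h1, map_smul]
    have h3 := hY w
    rw [h2, om_sq hA hB hBA, h1] at h3
    rcases hr with rfl | rfl
    · -- -9 om w - 9 w + 3 om w + w = 0
      have e := h' (om A B w)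
      have e2 := h' w
      have h4 : (2 : ZMod 13) • (((3 : ZMod 13) • (3 : ZMod 13) • (-w - om A B w)) +
        (3 : ZMod 13) • om A B w + w) = 0 := by rw [h3, smul_zero]
      have h5 : (2 : ZMod 13) • (((3 : ZMod 13) • (3 : ZMod 13) • (-w - om A B w)) +
        (3 : ZMod 13) • om A B w + w) = om A B w - (3 : ZMod 13) • w -
          (13 : ZMod 13) • om A B w - (13 : ZMod 13) • w := by module
      rw [h5, e, e2, sub_zero, sub_zero, sub_eq_zero] at h4
      exact h4
    · have e := h' (om A B w)
      have e2 := h' w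
      -- 81(-w - om) + 9 om + w = -80 w - 72 om; times 2: -160 w - 144 om; -144 = 1 - 145 no
      have h4 : (2 : ZMod 13) • (((9 : ZMod 13) • (9 : ZMod 13) • (-w - om A B w)) +
        (9 : ZMod 13) • om A B w + w) = 0 := by rw [h3, smul_zero]
      have h5 : (2 : ZMod 13) • (((9 : ZMod 13) • (9 : ZMod 13) • (-w - om A B w)) +
        (9 : ZMod 13) • om A B w + w) = -(om A B w - (9 : ZMod 13) • w) -
          (11 : ZMod 13) • (13 : ZMod 13) • om A B w - (13 : ZMod 13) • (13 : ZMod 13) • w := by
        module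
      rw [h5, e, e2, smul_zero, smul_zero, sub_zero, sub_zero, neg_eq_zero, sub_eq_zero] at h4
      exact h4
  have hr0 : r ≠ 0 := by
    rcases hr with rfl | rfl <;> decide
  have hAB : ∀ w : V, C w = r • w → A w = B w := by
    intro w hw
    have hw' : C (A w) = r • A w := by rw [hCA, hw, map_smul]
    have h1 := key w hw
    have h2 := key _ hw'
    rw [om_A hA hB hBA, h1, map_smul] at h2
    exact (smul_right_injective V hr0 h2).symm
  have h1 := hAB (A v) (by rw [hCA, hv, map_smul])
  have h2 := hAB (B v) (by rw [hCB, hv, map_smul])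
  rw [hA, hBA] at h1
  rw [hB] at h2
  rw [h2, neg_neg] at h1
  -- `-v = v`
  have h3 : (2 : ZMod 13) • v = 0 := by
    rw [two_smul]
    nth_rw 1 [← h1]
    exact neg_add_cancel v
  exact (smul_eq_zero.1 h3).resolve_left (by decide)

/-- `Y = om`. -/
theorem eq_om (hY : ∀ v, Y (Y v) + Y v + v = 0) (hYA : ∀ v, Y (A v) = B (Y v))
    (hYB : ∀ v, Y (B v) = A (B (Y v))) (v : V) : Y v = om A B v := by
  set W := om A B with hW
  have wA : ∀ v, W (A v) = B (W v) := om_A hA hB hBA
  have wB : ∀ v, W (B v) = A (B (W v)) := om_B hA hB hBA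
  have w2 : ∀ v, W (W v) = -v - W v := om_sq hA hB hBA
  have w3 : ∀ v, W (W (W v)) = v := by
    intro v
    rw [w2 (W v), w2 v]
    abel
  -- inverse relations
  have wiB : ∀ v, W (W (B v)) = A (W (W v)) := by
    intro v
    have := wA (W (W v))
    have h1 : W (W (W (A (W (W v))))) = W (W (B (W (W (W v))))) := by rw [this]
    rw [w3, w3] at h1
    exact h1.symm
  have wiAB : ∀ v, W (W (A (B v))) = B (W (W v)) := by
    intro v
    have := wB (W (W v))
    have h1 : W (W (W (B (W (W v))))) = W (W (A (B (W (W (W v)))))) := by rw [this]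
    rw [w3, w3] at h1
    exact h1.symm
  have yW : ∀ v, W (Y v) = Y (W v) := by
    intro v
    simp only [hW, om_apply, map_smul, map_add, hYA, hYB, hA, hB, hBA, map_neg, neg_neg]
    module
  let C : V →ₗ[ZMod 13] V := W ∘ₗ W ∘ₗ Y
  have hC : ∀ v, C v = W (W (Y v)) := fun v => rfl
  have hCC : ∀ v, Y v = W (C v) := fun v => by rw [hC, w3]
  have y3 : ∀ v, Y (Y (Y v)) = v := by
    intro v
    have h1 := hY v
    have h2 := hY (Y v)
    have h3 : Y (Y (Y v)) - v = (Y (Y (Y v)) + Y (Y v) + Y v) - (Y (Y v) + Y v + v) := by abel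
    rw [h2, h1, sub_zero, sub_eq_zero] at h3
    exact h3
  have hCA : ∀ v, C (A v) = A (C v) := by
    intro v
    rw [hC, hC, hYA, wiB]
  have hCB : ∀ v, C (B v) = B (C v) := by
    intro v
    rw [hC, hC, hYB, wiAB]
  have c3 : ∀ v, C (C (C v)) = v := by
    intro v
    simp only [hC, ← yW, y3, w3]
  have h13 : (13 : ZMod 13) = 0 := rfl
  have h' : ∀ w : V, (13 : ZMod 13) • w = 0 := fun w => by rw [h13, zero_smul]
  -- `(C - 3) (C - 9) (C - 1) = 0`
  have e1 : C (C v) - (10 : ZMod 13) • C v + (9 : ZMod 13) • v = 0 := by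
    apply eigen_eq_zero hA hB hBA hY hYA hYB hCC (fun v => (yW v)) hCA hCB 3 (Or.inl rfl)
    rw [map_add, map_sub, map_smul, map_smul, c3]
    have e := h' (C (C v))
    have e2 := h' (C v)
    have e3 := h' v
    rw [← sub_eq_zero]
    have : v - (10 : ZMod 13) • C (C v) + (9 : ZMod 13) • C v -
        (3 : ZMod 13) • (C (C v) - (10 : ZMod 13) • C v + (9 : ZMod 13) • v) =
        -((13 : ZMod 13) • C (C v)) + (3 : ZMod 13) • ((13 : ZMod 13) • C v) -
          (2 : ZMod 13) • ((13 : ZMod 13) • v) := by module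
    rw [this, e, e2, e3]
    simp
  have e2 : C v - v = 0 := by
    apply eigen_eq_zero hA hB hBA hY hYA hYB hCC (fun v => (yW v)) hCA hCB 9 (Or.inr rfl)
    rw [map_sub]
    have h1 : C (C v) - C v - (9 : ZMod 13) • (C v - v) =
      C (C v) - (10 : ZMod 13) • C v + (9 : ZMod 13) • v := by module
    rw [← sub_eq_zero, h1, e1]
  rw [hCC v, sub_eq_zero.1 e2]

/-- The order of an irreducible module. -/
theorem card_eq [Nontrivial V] (hT : ∀ v, T (T v) = A v) (hTB : ∀ v, T (B (T v)) = B v)
    (hY : ∀ v, Y (Y v) + Y v + v = 0) (hYA : ∀ v, Y (A v) = B (Y v))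
    (hYB : ∀ v, Y (B v) = A (B (Y v)))
    (hirr : ∀ W : Submodule (ZMod 13) V, (∀ w ∈ W, T w ∈ W) → (∀ w ∈ W, Y w ∈ W) →
      W = ⊥ ∨ W = ⊤) : Nat.card V = 13 ^ 4 := by
  have h13 : (13 : ZMod 13) = 0 := rfl
  have h' : ∀ w : V, (13 : ZMod 13) • w = 0 := fun w => by rw [h13, zero_smul]
  have hYW := eq_om hA hB hBA hY hYA hYB
  have hTA : ∀ v, T (A v) = A (T v) := fun v => by rw [← hT, ← hT]
  have hTB' : ∀ v, T (B v) = A (B (T v)) := by
    intro v
    have h1 : T (-(A (T v))) = v := by rw [map_neg, hTA, hT, hA, neg_neg]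
    have h2 : T (B v) = T (B (T (-(A (T v))))) := by rw [h1]
    rw [h2, hTB, map_neg, hBA, neg_neg]
  let δ : V →ₗ[ZMod 13] V := T - A ∘ₗ T
  have hδ : ∀ v, δ v = T v - A (T v) := fun v => rfl
  have δ2 : ∀ v, δ (δ v) = (2 : ZMod 13) • v := by
    intro v
    simp only [hδ, map_sub, hTA, hT, hA, map_neg]
    module
  have δA : ∀ v, δ (A v) = A (δ v) := by
    intro v
    simp only [hδ, map_sub, hTA]
  have δB : ∀ v, δ (B v) = B (δ v) := by
    intro v
    simp only [hδ, map_sub, hTB', hA, hBA]
    module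
  have Tδ : ∀ v, T v = (7 : ZMod 13) • (δ v + A (δ v)) := by
    intro v
    simp only [hδ, map_sub, hA]
    have e := h' (T v)
    rw [← sub_eq_zero, ← neg_eq_zero, ← e]
    module
  -- an eigenvector
  obtain ⟨v, hv0, hv⟩ : ∃ v : V, v ≠ 0 ∧ A v = (5 : ZMod 13) • v := by
    by_contra hcon
    push Not at hcon
    have h1 : ∀ w : V, A w + (5 : ZMod 13) • w = 0 := by
      intro w
      by_contra hw
      refine hcon _ hw ?_
      rw [map_add, hA, map_smul]
      have e := h' w
      rw [← sub_eq_zero, ← neg_eq_zero]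
      have : -(-w + (5 : ZMod 13) • A w - (5 : ZMod 13) • (A w + (5 : ZMod 13) • w)) =
        (2 : ZMod 13) • ((13 : ZMod 13) • w) := by module
      rw [this, e, smul_zero]
    obtain ⟨w, hw⟩ := exists_ne (0 : V)
    have h2 := h1 (B w)
    have h3 := congrArg B (h1 w)
    rw [map_add, map_zero, map_smul, hBA] at h3
    have h4 : (10 : ZMod 13) • B w = 0 := by
      have : (10 : ZMod 13) • B w = (A (B w) + (5 : ZMod 13) • B w) +
        (-A (B w) + (5 : ZMod 13) • B w) := by module
      rw [this, h2, h3, add_zero]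
    have h5 : B w = 0 := (smul_eq_zero.1 h4).resolve_left (by decide)
    have h6 := hB w
    rw [h5, map_zero] at h6
    exact hw (neg_eq_zero.1 h6.symm)
  -- the submodule
  let f : (Fin 4 → ZMod 13) →ₗ[ZMod 13] V :=
    { toFun := fun x => x 0 • v + x 1 • B v + x 2 • δ v + x 3 • δ (B v)
      map_add' := fun x y => by
        simp only [Pi.add_apply]
        module
      map_smul' := fun c x => by
        simp only [Pi.smul_apply, smul_eq_mul, RingHom.id_apply]
        module }
  have hf : ∀ x, f x = x 0 • v + x 1 • B v + x 2 • δ v + x 3 • δ (B v) := fun x => rfl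
  have invA : ∀ w ∈ LinearMap.range f, A w ∈ LinearMap.range f := by
    rintro _ ⟨x, rfl⟩
    refine ⟨![5 * x 0, -5 * x 1, 5 * x 2, -5 * x 3], ?_⟩
    rw [hf, hf]
    simp only [map_add, map_smul, ← δA, hv]
    have hAB : A (B v) = -((5 : ZMod 13) • B v) := by
      have := hBA v
      rw [hv, map_smul] at this
      rw [this, neg_neg]
    rw [hAB]
    simp only [Matrix.cons_val_zero, Matrix.cons_val_one, Matrix.cons_val, map_smul, map_neg]
    module
  have invB : ∀ w ∈ LinearMap.range f, B w ∈ LinearMap.range f := by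
    rintro _ ⟨x, rfl⟩
    refine ⟨![-x 1, x 0, -x 3, x 2], ?_⟩
    rw [hf, hf]
    simp only [map_add, map_smul, ← δB, hB, map_neg]
    simp only [Matrix.cons_val_zero, Matrix.cons_val_one, Matrix.cons_val, map_smul, map_neg]
    module
  have invδ : ∀ w ∈ LinearMap.range f, δ w ∈ LinearMap.range f := by
    rintro _ ⟨x, rfl⟩
    refine ⟨![2 * x 2, 2 * x 3, x 0, x 1], ?_⟩
    rw [hf, hf]
    simp only [map_add, map_smul, δ2]
    simp only [Matrix.cons_val_zero, Matrix.cons_val_one, Matrix.cons_val, map_smul, map_neg]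
    module
  have invT : ∀ w ∈ LinearMap.range f, T w ∈ LinearMap.range f := by
    intro w hw
    rw [Tδ]
    exact Submodule.smul_mem _ _ (Submodule.add_mem _ (invδ w hw) (invA _ (invδ w hw)))
  have invY : ∀ w ∈ LinearMap.range f, Y w ∈ LinearMap.range f := by
    intro w hw
    rw [hYW, om_apply]
    exact Submodule.smul_mem _ _ (Submodule.add_mem _ (Submodule.add_mem _ (Submodule.add_mem _ hw
      (invA w hw)) (invB w hw)) (invA _ (invB w hw)))
  have htop : LinearMap.range f = ⊤ := by
    rcases hirr _ invT invY with h | h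
    · exfalso
      apply hv0
      have h1 : f ![1, 0, 0, 0] ∈ LinearMap.range f := ⟨_, rfl⟩
      rw [h, Submodule.mem_bot, hf] at h1
      simpa using h1
    · exact h
  have hinj : Function.Injective f := by
    rw [← LinearMap.ker_eq_bot, LinearMap.ker_eq_bot']
    intro x hx
    rw [hf] at hx
    have hAB : A (B v) = -((5 : ZMod 13) • B v) := by
      have := hBA v
      rw [hv, map_smul] at this
      rw [this, neg_neg]
    have h1 := congrArg A hx
    simp only [map_add, map_smul, ← δA, hv, hAB, map_neg, map_zero] at h1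
    have e1 : (10 : ZMod 13) • (x 0 • v + x 2 • δ v) = 0 := by
      have : (10 : ZMod 13) • (x 0 • v + x 2 • δ v) =
        (5 : ZMod 13) • (x 0 • v + x 1 • B v + x 2 • δ v + x 3 • δ (B v)) +
        (x 0 • (5 : ZMod 13) • v + x 1 • -((5 : ZMod 13) • B v) + x 2 • (5 : ZMod 13) • δ v +
          x 3 • -((5 : ZMod 13) • δ (B v))) := by module
      rw [this, hx, h1, smul_zero, add_zero]
    have e2 : x 0 • v + x 2 • δ v = 0 := (smul_eq_zero.1 e1).resolve_left (by decide)
    have e3 : x 1 • B v + x 3 • δ (B v) = 0 := by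
      have : x 1 • B v + x 3 • δ (B v) =
        (x 0 • v + x 1 • B v + x 2 • δ v + x 3 • δ (B v)) - (x 0 • v + x 2 • δ v) := by module
      rw [this, hx, e2, sub_zero]
    have hBv : B v ≠ 0 := by
      intro h
      have h6 := hB v
      rw [h, map_zero] at h6
      exact hv0 (neg_eq_zero.1 h6.symm)
    have key : ∀ (a b : ZMod 13) (w : V), w ≠ 0 → a • w + b • δ w = 0 → a = 0 ∧ b = 0 := by
      intro a b w hw h
      have h2 := congrArg δ h
      rw [map_add, map_smul, map_smul, δ2, map_zero] at h2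
      have h3 : (a * a - 2 * b * b) • w = 0 := by
        have : (a * a - 2 * b * b) • w = a • (a • w + b • δ w) -
          b • (a • δ w + b • (2 : ZMod 13) • w) := by module
        rw [this, h, h2, smul_zero, smul_zero, sub_zero]
      have h4 := (smul_eq_zero.1 h3).resolve_right hw
      clear h h2 h3
      revert a b
      decide
    obtain ⟨a0, a2⟩ := key _ _ _ hv0 e2
    obtain ⟨a1, a3⟩ := key _ _ _ hBv e3
    funext i
    fin_cases i
    · exact a0
    · exact a1
    · exact a2
    · exact a3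
  have hsurj : Function.Surjective f := LinearMap.range_eq_top.1 htop
  rw [← Nat.card_congr (Equiv.ofBijective f ⟨hinj, hsurj⟩), Nat.card_eq_fintype_card]
  simp

end quat

end Cfsg.Agent.H406.OctAlg
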