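import Cfsg.Agent.H406.OctAlg
import Cfsg.Agent.Lib.VonDyck

/-!
# The kernel of a Frobenius group with binary octahedral complement and kernel of exponent 13
-/

set_option autoImplicit false
set_option linter.unusedSectionVars false
set_option linter.style.haveILetI false

namespace Cfsg.Agent.H406.OctOrder

open Subgroup Cfsg.Agent.Lib.VonDyck

/-- The 4-cycle. -/
def tc : Equiv.Perm (Fin 4) := s4 * t4

/-- The 3-cycle. -/
def yc : Equiv.Perm (Fin 4) := t4

theorem tc_sq_ne : tc ^ 2 ≠ 1 := by decide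
theorem tc_four : tc ^ 4 = 1 := by decide
theorem yc_ne : yc ≠ 1 := by decide
theorem yc_three : yc ^ 3 = 1 := by decide
set_option maxRecDepth 20000 in
theorem rel_y : yc * (yc * tc ^ 2 * yc⁻¹) * yc⁻¹ = tc ^ 2 * (yc * tc ^ 2 * yc⁻¹) := by decide
set_option maxRecDepth 20000 in
theorem rel_ab_ne : tc ^ 2 * (yc * tc ^ 2 * yc⁻¹) ≠ 1 := by decide
set_option maxRecDepth 20000 in
theorem rel_ab_sq : (tc ^ 2 * (yc * tc ^ 2 * yc⁻¹)) ^ 2 = 1 := by decide
set_option maxRecDepth 20000 in
theorem rel_tb_ne : tc * (yc * tc ^ 2 * yc⁻¹) ≠ 1 := by decide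
set_option maxRecDepth 20000 in
theorem rel_tb_sq : (tc * (yc * tc ^ 2 * yc⁻¹)) ^ 2 = 1 := by decide
set_option maxRecDepth 20000 in
theorem rel_tb_ne' : tc⁻¹ * (yc * tc ^ 2 * yc⁻¹) ≠ 1 := by decide
set_option maxRecDepth 20000 in
theorem rel_tb_sq' : (tc⁻¹ * (yc * tc ^ 2 * yc⁻¹)) ^ 2 = 1 := by decide

section relations

variable {H : Type*} [Group H] (π : H →* Equiv.Perm (Fin 4)) (hπ : Function.Surjective π) (s : H)
  (hs1 : s ≠ 1) (hs2 : s * s = 1) (hker : ∀ h, π h = 1 → h = 1 ∨ h = s)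
  (hπs : π s = 1)
  (hinv : ∀ h : H, h * h = 1 → h = 1 ∨ h = s) (hsc : ∀ h, s * h = h * s)

include hπ hs1 hs2 hker hπs hinv hsc

/-- Generators of the binary octahedral group with their relations. -/
theorem exists_gens : ∃ t y : H, (π t = tc ∨ π t = tc⁻¹) ∧ π y = yc ∧ y * y * y = 1 ∧
    (t * t) * (t * t) = s ∧
    (y * (t * t) * y⁻¹) * (y * (t * t) * y⁻¹) = s ∧
    (y * (t * t) * y⁻¹) * (t * t) = s * ((t * t) * (y * (t * t) * y⁻¹)) ∧
    y * (y * (t * t) * y⁻¹) = (t * t) * (y * (t * t) * y⁻¹) * y ∧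
    t * (y * (t * t) * y⁻¹) * t = y * (t * t) * y⁻¹ := by
  -- squares of elements mapping to nontrivial involutions
  have hsq : ∀ h : H, π h ≠ 1 → (π h) ^ 2 = 1 → h * h = s := by
    intro h h1 h2
    rcases hker (h * h) (by rw [map_mul, ← pow_two, h2]) with h3 | h3
    · rcases hinv h h3 with h4 | h4
      · exact absurd (by rw [h4, map_one]) h1
      · exact absurd (by rw [h4, hπs]) h1
    · exact h3
  obtain ⟨t₀, ht₀⟩ := hπ tc
  obtain ⟨y₀, hy₀⟩ := hπ yc
  set y : H := y₀ ^ 4 with hy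
  have hπy : π y = yc := by
    rw [hy, map_pow, hy₀, pow_succ, yc_three, one_mul]
  have hy3 : y * y * y = 1 := by
    have h1 : π (y₀ ^ 3) = 1 := by rw [map_pow, hy₀, yc_three]
    have h2 : (y₀ ^ 3) ^ 2 = 1 := by
      rcases hker _ h1 with h | h
      · rw [h, one_pow]
      · rw [h, pow_two, hs2]
    have h3 : y * y * y = ((y₀ ^ 3) ^ 2) ^ 2 := by
      rw [hy, ← pow_mul, ← pow_mul, ← pow_add, ← pow_add]
    rw [h3, h2, one_pow]
  -- the choice of `t`
  obtain ⟨t, htπ, hrel⟩ : ∃ t : H, (π t = tc ∨ π t = tc⁻¹) ∧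
      y * (y * (t * t) * y⁻¹) = (t * t) * (y * (t * t) * y⁻¹) * y := by
    have h1 : π (y * (y * (t₀ * t₀) * y⁻¹) * y⁻¹ * ((t₀ * t₀) * (y * (t₀ * t₀) * y⁻¹))⁻¹) = 1 := by
      simp only [map_mul, map_inv, hπy, ht₀]
      rw [← pow_two, rel_y, mul_inv_cancel]
    rcases hker _ h1 with h | h
    · refine ⟨t₀, Or.inl ht₀, ?_⟩
      rw [mul_inv_eq_one] at h
      rw [← h]
      group
    · refine ⟨t₀⁻¹, Or.inr (by rw [map_inv, ht₀]), ?_⟩
      have h2 : y * (y * (t₀ * t₀) * y⁻¹) * y⁻¹ = s * ((t₀ * t₀) * (y * (t₀ * t₀) * y⁻¹)) := by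
        rw [← h]; group
      have ha2 : (t₀ * t₀) * (t₀ * t₀) = s := by
        apply hsq
        · rw [map_mul, ht₀, ← pow_two]; exact tc_sq_ne
        · rw [map_mul, ht₀, ← pow_two, ← pow_mul]; exact tc_four
      have hai : t₀⁻¹ * t₀⁻¹ = s * (t₀ * t₀) := by
        have : t₀⁻¹ * t₀⁻¹ = (t₀⁻¹ * t₀⁻¹) * ((t₀ * t₀) * (t₀ * t₀)) * s := by
          rw [ha2, mul_assoc, hs2, mul_one]
        rw [this, ← hsc]
        simp only [mul_assoc, inv_mul_cancel_left]
      rw [hai]
      have e1 : y * (s * (t₀ * t₀)) * y⁻¹ = s * (y * (t₀ * t₀) * y⁻¹) := by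
        rw [← mul_assoc y s, ← hsc y]; group
      rw [e1]
      have e2 : y * (s * (y * (t₀ * t₀) * y⁻¹)) = s * (y * (y * (t₀ * t₀) * y⁻¹)) := by
        rw [← mul_assoc y s, ← hsc y]; group
      rw [e2]
      have e3 : y * (y * (t₀ * t₀) * y⁻¹) = s * ((t₀ * t₀) * (y * (t₀ * t₀) * y⁻¹)) * y := by
        rw [← h2]; group
      rw [e3]
      have e4 : s * (t₀ * t₀) * (s * (y * (t₀ * t₀) * y⁻¹)) =
          s * (s * ((t₀ * t₀) * (y * (t₀ * t₀) * y⁻¹))) := by
        rw [mul_assoc s, ← mul_assoc (t₀ * t₀) s, ← hsc (t₀ * t₀), mul_assoc]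
      rw [e4]
      group
  have hπa : π (t * t) = tc ^ 2 := by
    rcases htπ with h | h
    · rw [map_mul, h, pow_two]
    · rw [map_mul, h, ← pow_two]
      decide
  have hπb : π (y * (t * t) * y⁻¹) = yc * tc ^ 2 * yc⁻¹ := by
    rw [map_mul, map_mul, map_inv, hπa, hπy]
  have ha2 : (t * t) * (t * t) = s := by
    apply hsq
    · rw [hπa]; exact tc_sq_ne
    · rw [hπa, ← pow_mul]; exact tc_four
  have hb2 : (y * (t * t) * y⁻¹) * (y * (t * t) * y⁻¹) = s := by
    calc (y * (t * t) * y⁻¹) * (y * (t * t) * y⁻¹) = y * ((t * t) * (t * t)) * y⁻¹ := by group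
      _ = y * s * y⁻¹ := by rw [ha2]
      _ = s := by rw [← hsc y]; group
  have hab2 : ((t * t) * (y * (t * t) * y⁻¹)) * ((t * t) * (y * (t * t) * y⁻¹)) = s := by
    apply hsq
    · rw [map_mul, hπa, hπb]; exact rel_ab_ne
    · rw [map_mul, hπa, hπb]; exact rel_ab_sq
  have htb2 : (t * (y * (t * t) * y⁻¹)) * (t * (y * (t * t) * y⁻¹)) = s := by
    apply hsq
    · rw [map_mul, hπb]
      rcases htπ with h | h <;> rw [h]
      · exact rel_tb_ne
      · exact rel_tb_ne'
    · rw [map_mul, hπb]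
      rcases htπ with h | h <;> rw [h]
      · exact rel_tb_sq
      · exact rel_tb_sq'
  refine ⟨t, y, htπ, hπy, hy3, ha2, hb2, ?_, hrel, ?_⟩
  · -- `b a = s a b`
    generalize y * (t * t) * y⁻¹ = b at *
    generalize t * t = a at *
    -- a b a b = s, a a = s, b b = s
    have h1 : a * (b * a) * b = s := by rw [← hab2]; group
    have h2 : b * a = a⁻¹ * s * b⁻¹ := by rw [← h1]; group
    have h3 : a⁻¹ = s * a := by
      rw [inv_eq_iff_mul_eq_one, ← mul_assoc, ← hsc a, mul_assoc, ha2, hs2]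
    have h4 : b⁻¹ = s * b := by
      rw [inv_eq_iff_mul_eq_one, ← mul_assoc, ← hsc b, mul_assoc, hb2, hs2]
    rw [h2, h3, h4]
    have h5 : s * a * s * (s * b) = s * a * (s * s) * b := by group
    rw [h5, hs2, mul_one, mul_assoc]
  · generalize y * (t * t) * y⁻¹ = b at *
    have h1 : t * b * t = s * b⁻¹ := by rw [← htb2]; group
    have h4 : b⁻¹ = s * b := by
      rw [inv_eq_iff_mul_eq_one, ← mul_assoc, ← hsc b, mul_assoc, hb2, hs2]
    rw [h1, h4, ← mul_assoc, hs2, one_mul]

/-- Subgroups containing the generators. -/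
theorem eq_top_of_gens {t y : H} (ht : π t = tc ∨ π t = tc⁻¹) (hy : π y = yc)
    (hts : (t * t) * (t * t) = s) (L : Subgroup H) (htL : t ∈ L) (hyL : y ∈ L) : L = ⊤ := by
  have hsL : s ∈ L := by
    rw [← hts]
    exact mul_mem (mul_mem htL htL) (mul_mem htL htL)
  have hmap : L.map π = ⊤ := by
    rw [eq_top_iff, ← closure_s4_t4, closure_le]
    have h1 : tc ∈ L.map π := by
      rcases ht with h | h
      · exact ⟨t, htL, h⟩
      · exact ⟨t⁻¹, inv_mem htL, by rw [map_inv, h, inv_inv]⟩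
    have h2 : yc ∈ L.map π := ⟨y, hyL, hy⟩
    rintro z (rfl | rfl)
    · have : s4 = tc * yc⁻¹ := by decide
      rw [this]
      exact mul_mem h1 (inv_mem h2)
    · exact h2
  rw [eq_top_iff]
  intro h _
  have : π h ∈ L.map π := by rw [hmap]; trivial
  obtain ⟨l, hl, hlh⟩ := this
  rcases hker (l⁻¹ * h) (by rw [map_mul, map_inv, hlh, inv_mul_cancel]) with h1 | h1
  · rw [inv_mul_eq_one] at h1
    rw [← h1]; exact hl
  · have : h = l * s := by rw [← h1]; group
    rw [this]
    exact mul_mem hl hsL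

end relations

/-- The order of the kernel. -/
theorem card_kernel {G : Type*} [Group G] [Finite G] (K H : Subgroup G) [hKn : K.Normal]
    (hKH : K ⊔ H = ⊤) (hKc : IsMulCommutative K) (hK13 : ∀ x ∈ K, x ^ 13 = 1) (hK : K ≠ ⊥)
    (hmin : ∀ N : Subgroup G, N.Normal → N ≤ K → N = ⊥ ∨ N = K)
    (hfpf : ∀ h ∈ H, h ≠ 1 → ∀ x ∈ K, h * x * h⁻¹ = x → x = 1)
    (s : G) (hsH : s ∈ H) (hs : orderOf s = 2) (hsu : ∀ t ∈ H, orderOf t = 2 → t = s)
    (hsinv : ∀ k ∈ K, s * k * s⁻¹ = k⁻¹) (Z : Subgroup ↥H) [Z.Normal] (hZ : Nat.card Z = 2)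
    (e : ↥H ⧸ Z ≃* Equiv.Perm (Fin 4)) : Nat.card K = 13 ^ 4 := by
  haveI : Fact (Nat.Prime 2) := ⟨Nat.prime_two⟩
  -- the group `H`
  let π : H →* Equiv.Perm (Fin 4) := e.toMonoidHom.comp (QuotientGroup.mk' Z)
  have hπ : Function.Surjective π := e.surjective.comp (QuotientGroup.mk'_surjective Z)
  have hkerZ : ∀ h, π h = 1 ↔ h ∈ Z := by
    intro h
    change e (QuotientGroup.mk' Z h) = 1 ↔ _
    rw [map_eq_one_iff e e.injective, QuotientGroup.mk'_apply, QuotientGroup.eq_one_iff]
  let s' : H := ⟨s, hsH⟩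
  have hs' : orderOf s' = 2 := by rw [← Subgroup.orderOf_coe]; exact hs
  have hsu' : ∀ t : H, orderOf t = 2 → t = s' := by
    intro t ht
    apply Subtype.ext
    apply hsu t t.2
    rw [Subgroup.orderOf_coe, ht]
  have hZs : Z = zpowers s' := by
    obtain ⟨z, hz⟩ := exists_prime_orderOf_dvd_card' (G := Z) 2 (by rw [hZ])
    have hzs : (z : H) = s' := hsu' _ (by rw [Subgroup.orderOf_coe, hz])
    symm
    apply Subgroup.eq_of_le_of_card_ge
    · rw [← hzs]
      exact (zpowers_le).2 z.2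
    · rw [hZ, Nat.card_zpowers, hs']
  have hs1 : s' ≠ 1 := by
    intro h
    rw [h, orderOf_one] at hs'
    omega
  have hs2 : s' * s' = 1 := by
    have := pow_orderOf_eq_one s'
    rwa [hs', pow_two] at this
  have hker : ∀ h, π h = 1 → h = 1 ∨ h = s' := by
    intro h hh
    rw [hkerZ, hZs] at hh
    obtain ⟨k, hk⟩ := mem_zpowers_iff.1 hh
    rcases Int.even_or_odd k with ⟨m, hm⟩ | ⟨m, hm⟩
    · left
      rw [← hk, hm, ← two_mul, zpow_mul, zpow_ofNat, pow_two, hs2, one_zpow]
    · right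
      rw [← hk, hm, zpow_add, zpow_mul, zpow_ofNat, pow_two, hs2, one_zpow, one_mul, zpow_one]
  have hπs : π s' = 1 := by
    rw [hkerZ, hZs]
    exact mem_zpowers s'
  have hinv : ∀ h : H, h * h = 1 → h = 1 ∨ h = s' := by
    intro h hh
    by_cases h1 : h = 1
    · exact Or.inl h1
    · right
      apply hsu'
      apply orderOf_eq_prime _ h1
      rw [pow_two, hh]
  have hsc : ∀ h : H, s' * h = h * s' := by
    intro h
    have : h * s' * h⁻¹ = s' := by
      apply hsu'
      rw [← hs']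
      have := orderOf_injective (MulAut.conj h).toMonoidHom (MulAut.conj h).injective s'
      simpa using this
    rw [mul_inv_eq_iff_eq_mul] at this
    exact this.symm
  obtain ⟨t, y, htπ, hyπ, hy3, ha2, hb2, hba, hyb, htb⟩ :=
    exists_gens π hπ s' hs1 hs2 hker hπs hinv hsc
  -- the module
  letI : CommGroup K := { (inferInstance : Group K) with
    mul_comm := fun a b => hKc.is_comm.comm a b }
  letI : Module (ZMod 13) (Additive K) := AddCommGroup.zmodModule (n := 13) (by
    intro x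
    change Additive.ofMul ((Additive.toMul x) ^ 13) = 0
    have : (Additive.toMul x) ^ 13 = 1 := Subtype.ext (hK13 _ (Additive.toMul x).2)
    rw [this]
    rfl)
  let θ : H → (Additive K →ₗ[ZMod 13] Additive K) := fun h =>
    (MonoidHom.toAdditive ((MulAut.conjNormal (h : G) : MulAut K).toMonoidHom)).toZModLinearMap 13
  have hθ : ∀ (h : H) (v : Additive K), ((Additive.toMul (θ h v) : K) : G) =
      h * (Additive.toMul v : K) * (h : G)⁻¹ := by
    intro h v
    exact MulAut.conjNormal_apply (h : G) (Additive.toMul v)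
  have hext : ∀ v w : Additive K, ((Additive.toMul v : K) : G) = (Additive.toMul w : K) → v = w :=
    fun v w h => Additive.toMul.injective (Subtype.ext h)
  have hθmul : ∀ (h k : H) (v : Additive K), θ (h * k) v = θ h (θ k v) := by
    intro h k v
    apply hext
    rw [hθ, hθ, hθ]
    simp only [Subgroup.coe_mul]
    group
  have hθs : ∀ v : Additive K, θ s' v = -v := by
    intro v
    apply hext
    rw [hθ]
    exact hsinv _ (Additive.toMul v).2
  have hθ1 : ∀ v : Additive K, θ 1 v = v := by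
    intro v
    apply hext
    rw [hθ]
    simp
  haveI : Nontrivial (Additive K) := by
    have : Nontrivial K := (Subgroup.nontrivial_iff_ne_bot K).2 hK
    infer_instance
  have hcard : Nat.card (Additive K) = 13 ^ 4 := by
    set b : H := y * (t * t) * y⁻¹ with hb
    refine Cfsg.Agent.H406.OctAlg.card_eq (A := θ (t * t)) (B := θ b) (T := θ t) (Y := θ y)
      ?_ ?_ ?_ ?_ ?_ ?_ ?_ ?_ ?_
    · intro v
      rw [← hθmul, ha2, hθs]
    · intro v
      rw [← hθmul, hb2, hθs]
    · intro v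
      rw [← hθmul, hba, hθmul, hθs, hθmul]
    · intro v
      rw [← hθmul]
    · intro v
      rw [← hθmul, ← hθmul]
      congr 2
    · intro v
      have hyne : (y : G) ≠ 1 := by
        intro h
        have : y = 1 := Subtype.ext h
        rw [this, map_one] at hyπ
        exact yc_ne hyπ.symm
      have hy3' : y * (y * y) = 1 := by rw [← mul_assoc, hy3]
      have h1 : θ y (θ y (θ y v) + θ y v + v) = θ y (θ y v) + θ y v + v := by
        rw [map_add, map_add, ← hθmul, ← hθmul, ← hθmul, hy3, hθ1]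
        abel
      have h2 := congrArg (fun w : Additive K => ((Additive.toMul w : K) : G)) h1
      simp only [hθ] at h2
      have h3 := hfpf y y.2 hyne _ (Additive.toMul (θ y (θ y v) + θ y v + v)).2 h2
      exact hext _ 0 h3
    · intro v
      rw [← hθmul, ← hθmul, hb]
      congr 2
      group
    · intro v
      rw [← hθmul, hyb, hθmul, hθmul]
    · intro W hWT hWY
      -- the stabilizer of `W`
      let L : Subgroup H :=
        { carrier := {h | ∀ w, w ∈ W ↔ θ h w ∈ W}
          one_mem' := fun w => by rw [hθ1]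
          mul_mem' := fun {a b} ha hb w => by rw [hθmul, ← ha, ← hb]
          inv_mem' := fun {a} ha w => by
            have := ha (θ a⁻¹ w)
            rw [← hθmul, mul_inv_cancel, hθ1] at this
            exact this.symm }
      have hstep : ∀ h : H, (∀ w ∈ W, θ h w ∈ W) → h ∈ L := by
        intro h hh w
        refine ⟨hh w, fun hw => ?_⟩
        have hpow : ∀ n : ℕ, ∀ w ∈ W, θ (h ^ n) w ∈ W := by
          intro n
          induction n with
          | zero => intro w hw; rw [pow_zero, hθ1]; exact hw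
          | succ n ih => intro w hw; rw [pow_succ, hθmul]; exact ih _ (hh w hw)
        have h1 := hpow (orderOf h - 1) _ hw
        rw [← hθmul, ← pow_succ, Nat.sub_add_cancel (orderOf_pos h), pow_orderOf_eq_one, hθ1] at h1
        exact h1
      have hLtop : L = ⊤ := eq_top_of_gens π hπ s' hs1 hs2 hker hπs hinv hsc htπ hyπ ha2 L
        (hstep t hWT) (hstep y hWY)
      -- the corresponding subgroup of `G`
      let N : Subgroup G := (AddSubgroup.toSubgroup' W.toAddSubgroup).map K.subtype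
      have hNmem : ∀ g : G, g ∈ N ↔ ∃ w ∈ W, ((Additive.toMul w : K) : G) = g := by
        intro g
        constructor
        · rintro ⟨k, hk, rfl⟩
          exact ⟨Additive.ofMul k, hk, rfl⟩
        · rintro ⟨w, hw, rfl⟩
          exact ⟨Additive.toMul w, hw, rfl⟩
      have hNn : N.Normal := by
        constructor
        intro n hn g
        obtain ⟨w, hw, rfl⟩ := (hNmem n).1 hn
        have hg : g ∈ K ⊔ H := by rw [hKH]; trivial
        obtain ⟨k, hk, h, hh, rfl⟩ := Subgroup.mem_sup_of_normal_left.1 hg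
        rw [hNmem]
        have hhL : (⟨h, hh⟩ : H) ∈ L := by rw [hLtop]; trivial
        refine ⟨θ ⟨h, hh⟩ w, (hhL w).1 hw, ?_⟩
        rw [hθ]
        have hmem : h * (Additive.toMul w : K) * h⁻¹ ∈ K := hKn.conj_mem _ (Additive.toMul w).2 h
        have hcom := hKc.is_comm.comm ⟨k, hk⟩ ⟨_, hmem⟩
        have hcom' : k * (h * (Additive.toMul w : K) * h⁻¹) =
          (h * (Additive.toMul w : K) * h⁻¹) * k := congrArg Subtype.val hcom
        calc h * ((Additive.toMul w : K) : G) * h⁻¹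
            = (h * (Additive.toMul w : K) * h⁻¹) * k * k⁻¹ := by group
          _ = k * (h * (Additive.toMul w : K) * h⁻¹) * k⁻¹ := by rw [hcom']
          _ = k * h * (Additive.toMul w : K) * (k * h)⁻¹ := by group
      have hNK : N ≤ K := by
        intro g hg
        obtain ⟨w, -, rfl⟩ := (hNmem g).1 hg
        exact (Additive.toMul w).2
      rcases hmin N hNn hNK with h | h
      · left
        rw [eq_bot_iff]
        intro w hw
        have : ((Additive.toMul w : K) : G) ∈ N := (hNmem _).2 ⟨w, hw, rfl⟩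
        rw [h, Subgroup.mem_bot] at this
        rw [Submodule.mem_bot]
        exact hext _ _ this
      · right
        rw [eq_top_iff]
        intro w _
        have : ((Additive.toMul w : K) : G) ∈ N := by rw [h]; exact (Additive.toMul w).2
        obtain ⟨w', hw', h2⟩ := (hNmem _).1 this
        have := hext _ _ h2
        rwa [← this]
  exact hcard

end Cfsg.Agent.H406.OctOrder
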